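import Cfsg.Agent.HeRecog.M8a.BB47Data

/-! Generated: checks of the comparison. -/

set_option autoImplicit false
set_option maxRecDepth 100000

namespace Cfsg.Agent.HeRecog.M8a.BB47

open Cfsg.Agent.CosetCert

theorem img_ok : H.checkImg = true := by decide +kernel

theorem rels_ok : H.checkRels RS = true := by decide +kernel

theorem onto_ok : H.checkOnto = true := by decide +kernel

theorem U_ok : H.checkU (SS.map SubSpec.word) = true := by decide +kernel

theorem conj_ok : H.checkConj = true := by decide +kernel

theorem pre_ok : allFrom (H.checkPre L D) 0 21504 = true := by decide +kernel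

theorem count_ok : Nat.ble (countB (MK.stabC L P D) 21504) 512 = true := by decide +kernel

end Cfsg.Agent.HeRecog.M8a.BB47
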