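import Cfsg.Agent.HeRecog.M8a.CompA
import Cfsg.Agent.HeRecog.M8a.CompB
import Cfsg.Agent.HeRecog.M8a.Aut
import Cfsg.Agent.HeRecog.Small

/-! The fused classes and the automorphism options. -/

set_option autoImplicit false
set_option maxRecDepth 100000

namespace Cfsg.Agent.HeRecog.M8a

open Cfsg.Agent.CosetCert Cfsg.Agent.Compute

/-- The subsets of classes left. -/
theorem options_list : allFrom (fun r => [0, 1, 2, 7, 15, 23, 31].contains r ||
    (varies K.allowed r EA || varies K.allowed r EB)) 0 32 = true := by decide +kernel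

theorem block2 : Classes.checkBlock K D 2
    [0, 1, 14, 15, 48, 49, 62, 63, 80, 81, 94, 95, 96, 97, 110, 111] = true := by decide +kernel

theorem block3 : Classes.checkBlock K D 3
    [0, 1, 16, 17, 40, 41, 56, 57, 68, 69, 84, 85, 108, 109, 124, 125] = true := by decide +kernel

theorem mask7 : maskIs K.allowed 7 EA UAsmall.O = true ∧ maskIs K.allowed 7 EB UBsmall.O = true :=
  ⟨by decide +kernel, by decide +kernel⟩

theorem mask15 : maskIs K.allowed 15 EA UAbig.O = true ∧ maskIs K.allowed 15 EB UBsmall.O = true :=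
  ⟨by decide +kernel, by decide +kernel⟩

theorem mask23 : maskIs K.allowed 23 EA UAsmall.O = true ∧ maskIs K.allowed 23 EB UBbig.O = true :=
  ⟨by decide +kernel, by decide +kernel⟩

theorem mask31 : maskIs K.allowed 31 EA UAbig.O = true ∧ maskIs K.allowed 31 EB UBbig.O = true :=
  ⟨by decide +kernel, by decide +kernel⟩

end Cfsg.Agent.HeRecog.M8a
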