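import Cfsg.Agent.HeRecog.M8a.Configs
import Cfsg.Agent.HeRecog.M8a.Fuse
import Cfsg.Agent.HeRecog.M8a.BB47
import Cfsg.Agent.HeRecog.M8a.BB47Chk
import Cfsg.Agent.HeRecog.HeIdentTop

/-! The map onto the Held group has no kernel, without simplicity. -/

set_option autoImplicit false
set_option linter.all false
set_option maxRecDepth 100000

namespace Cfsg.Agent.HeRecog.M8a

open Cfsg.Agent.CosetCert

/-- The commutator of a code with a code. -/
noncomputable def kerComm (c g : Nat) : Nat := D.mul c (D.mul (D.mul g (P.inv c)) (P.inv g))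

/-- A code reaches the centre by at most two commutators with generators. -/
noncomputable def kerDescent (c : Nat) : Bool :=
  Nat.blt c 2 || [2, 4, 8, 16, 32, 64, 128, 256].any fun g =>
    Nat.beq (kerComm c g) 1 || [2, 4, 8, 16, 32, 64, 128, 256].any fun h => Nat.beq (kerComm (kerComm c g) h) 1

theorem kerDescent_ok : allFrom kerDescent 0 21504 = true := by decide +kernel

theorem kerWord_ok : Letters.cenWord [0, 3, 0, 3] = true ∧
    Nat.beq (cev D (BB47.L.code P) [0, 3, 0, 3]) 1 = true := by decide +kernel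

theorem kerWord_moves : ((BB47.H.expand [0, 3, 0, 3]).all fun x => Nat.blt x 7) = true ∧
    (allFrom (fun i => Nat.beq (HeSp44.data.fwd (BB47.H.expand [0, 3, 0, 3]) i) i) 0 16) = false := by decide +kernel

/-- The kernel is trivial. -/
theorem ker_eq_bot {G : Type*} [Group G] [Finite G] {t : G} {co : Coord D t} {x y m l : G} (ht : orderOf t = 2)
    (h : BB47.L.Ok P K co x y m l) (hfus : IsConj t (co.ψ 14)) (q : G →* Cfsg.Spor.He)
    (hq : ∀ w : List Nat, (∀ a ∈ w, a < 28) → q (wev (BB47.L.val co m l) w) = HeFacts.elem (BB47.H.expand w)) :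
    q.ker = ⊥ := by
  classical
  have hn : q.ker.Normal := inferInstance
  -- the involution is not in the kernel
  have htK : t ∉ q.ker := by
    intro htK
    obtain ⟨-, hv⟩ := Letters.cen_spec h kerWord_ok.1
    rw [Nat.eq_of_beq_eq_true kerWord_ok.2, co.one] at hv
    have he := hq [0, 3, 0, 3] (by decide)
    rw [← hv, MonoidHom.mem_ker.1 htK] at he
    obtain ⟨φ, -, -, -, helem⟩ := HeFacts.exists_action
    refine Bool.false_ne_true (kerWord_moves.2.symm.trans ((allFrom_iff _ 0 16).2 fun i _ hi => ?_))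
    have := helem (BB47.H.expand [0, 3, 0, 3])
      (fun a ha => Nat.ble_eq.mp (List.all_eq_true.1 kerWord_moves.1 a ha)) ⟨i, by omega⟩
    rw [← he, map_one, inv_one] at this
    show Nat.beq _ _ = true
    rw [← this]
    exact Nat.beq_refl i
  -- the kernel meets the centraliser trivially
  have hgen : ∀ g ∈ [2, 4, 8, 16, 32, 64, 128, 256], g < 21504 := by decide
  have hcom : ∀ c g, c < 21504 → g < 21504 → co.ψ c ∈ q.ker →
      kerComm c g < 21504 ∧ co.ψ (kerComm c g) ∈ q.ker := by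
    intro c g hc hg hcK
    obtain ⟨i1, i2⟩ := PairData.inv_spec h.pair co hc
    obtain ⟨j1, j2⟩ := PairData.inv_spec h.pair co hg
    have l1 := co.lt _ _ hg i1
    have l2 := co.lt _ _ l1 j1
    refine ⟨co.lt _ _ hc l2, ?_⟩
    rw [kerComm, co.mul _ _ hc l2, co.mul _ _ l1 j1, co.mul _ _ hg i1, i2, j2]
    exact q.ker.mul_mem hcK (hn.conj_mem _ (q.ker.inv_mem hcK) _)
  have hKC : ∀ k ∈ q.ker, Commute k t → k = 1 := by
    intro k hk hkt
    obtain ⟨c, hc, rfl⟩ := co.surj k hkt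
    by_contra hne
    have hd := Tables.all_lt kerDescent_ok hc
    simp only [kerDescent, Bool.or_eq_true, List.any_eq_true] at hd
    rcases hd with hd | ⟨g, hg, hd | ⟨g', hg', hd⟩⟩
    · have hd := Nat.ble_eq.mp hd
      rcases (by omega : c = 0 ∨ c = 1) with rfl | rfl
      · exact hne co.zero
      · exact htK (by rwa [co.one] at hk)
    · have := (hcom c g hc (hgen g hg) hk).2
      rw [Nat.eq_of_beq_eq_true hd, co.one] at this
      exact htK this
    · obtain ⟨a1, a2⟩ := hcom c g hc (hgen g hg) hk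
      have := (hcom _ g' a1 (hgen g' hg') a2).2
      rw [Nat.eq_of_beq_eq_true hd, co.one] at this
      exact htK this
  have htt : t * t = 1 := Invol.mul_self_eq_one ht
  have hti : t⁻¹ = t := Invol.inv_eq_self ht
  -- so it is inverted by the involution
  have hinv : ∀ k ∈ q.ker, t * k * t⁻¹ = k⁻¹ := by
    let f : q.ker → q.ker := fun x => ⟨(x : G)⁻¹ * (t * x * t⁻¹),
      q.ker.mul_mem (q.ker.inv_mem x.2) (hn.conj_mem _ x.2 t)⟩
    have hf : Function.Injective f := by
      intro a b hab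
      have e : (a : G)⁻¹ * (t * a * t⁻¹) = (b : G)⁻¹ * (t * b * t⁻¹) := congrArg Subtype.val hab
      have hfix : Commute ((b : G) * (a : G)⁻¹) t := by
        show (b : G) * (a : G)⁻¹ * t = t * ((b : G) * (a : G)⁻¹)
        calc (b : G) * (a : G)⁻¹ * t = (b : G) * ((a : G)⁻¹ * (t * a * t⁻¹)) * (t * (a : G)⁻¹) := by group
          _ = (b : G) * ((b : G)⁻¹ * (t * b * t⁻¹)) * (t * (a : G)⁻¹) := by rw [e]
          _ = t * ((b : G) * (a : G)⁻¹) := by group
      exact Subtype.ext (mul_inv_eq_one.1 (hKC _ (q.ker.mul_mem b.2 (q.ker.inv_mem a.2)) hfix)).symm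
    intro k hk
    obtain ⟨a, ha⟩ := Finite.injective_iff_surjective.1 hf ⟨k, hk⟩
    have ha : (a : G)⁻¹ * (t * a * t⁻¹) = k := congrArg Subtype.val ha
    rw [← ha]
    calc t * ((a : G)⁻¹ * (t * a * t⁻¹)) * t⁻¹ = t * (a : G)⁻¹ * t * a * (t * t)⁻¹ := by group
      _ = t * (a : G)⁻¹ * t⁻¹ * a := by rw [htt, inv_one, mul_one, hti]
      _ = ((a : G)⁻¹ * (t * a * t⁻¹))⁻¹ := by group
  have hinv' : ∀ a, IsConj t a → ∀ k ∈ q.ker, a * k * a⁻¹ = k⁻¹ := by
    intro a ha k hk
    obtain ⟨g, rfl⟩ := isConj_iff.1 ha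
    have h1 := hinv (g⁻¹ * k * g) (by simpa using hn.conj_mem _ hk g⁻¹)
    calc g * t * g⁻¹ * k * (g * t * g⁻¹)⁻¹ = g * (t * (g⁻¹ * k * g) * t⁻¹) * g⁻¹ := by group
      _ = g * (g⁻¹ * k * g)⁻¹ * g⁻¹ := by rw [h1]
      _ = k⁻¹ := by group
  -- two fused classes differing by the involution
  have h15 : co.ψ 16 * co.ψ 14 * (co.ψ 16)⁻¹ = t * co.ψ 14 := by
    have e1 : t * co.ψ 14 = co.ψ (D.mul 1 14) := by rw [co.mul 1 14 (by norm_num) (by norm_num), co.one]
    rw [mul_inv_eq_iff_eq_mul, e1, ← co.mul 16 14 (by norm_num) (by norm_num),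
      ← co.mul (D.mul 1 14) 16 (co.lt _ _ (by norm_num) (by norm_num)) (by norm_num)]
    exact congrArg co.ψ (Nat.eq_of_beq_eq_true (by decide +kernel : Nat.beq (D.mul 16 14) (D.mul (D.mul 1 14) 16) = true))
  have hta : IsConj t (t * co.ψ 14) := hfus.trans (isConj_iff.2 ⟨_, h15⟩)
  refine (Subgroup.eq_bot_iff_forall _).2 fun k hk => hKC k hk ?_
  have h1 := hinv' _ hta k hk
  have h2 := hinv' _ hfus k hk
  have h3 : t * co.ψ 14 * k * (t * co.ψ 14)⁻¹ = k := by
    calc t * co.ψ 14 * k * (t * co.ψ 14)⁻¹ = t * (co.ψ 14 * k * (co.ψ 14)⁻¹) * t⁻¹ := by group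
      _ = t * k⁻¹ * t⁻¹ := by rw [h2]
      _ = (t * k * t⁻¹)⁻¹ := by group
      _ = k := by rw [hinv k hk, inv_inv]
  have h4 := hinv k hk
  rw [← h1, h3] at h4
  exact (mul_inv_eq_iff_eq_mul.1 h4).symm

end Cfsg.Agent.HeRecog.M8a
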