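import Cfsg.Agent.HeRecog.M8a.SideA

/-! Generated: combinations that spoil the marked set. -/

set_option autoImplicit false
set_option maxRecDepth 100000

namespace Cfsg.Agent.HeRecog.M8a

open Cfsg.Agent.Compute Cfsg.Agent.CosetCert

def kes_small0big : List Side.Expn := [⟨1, [], [], 1, 129⟩, ⟨2, [], [], 2, 130⟩, ⟨0, [0, 1, 1, 0, 1, 1], [1, 1, 0, 1, 1], 40, 8962⟩, ⟨13, [0, 1, 1, 0, 1, 1], [1, 1, 0, 1, 1], 68, 9069⟩, ⟨16, [], [], 128, 2⟩, ⟨2, [1, 1, 0, 1, 1], [0], 8960, 10280⟩]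

noncomputable def kal_small0big : Nat → Nat := getField 8 0x3b2a293819080b1a170605143524273639282b3a1b0a091815040716372625340f1e1d0c2d3c3f2e23323120011013020d1c1f0e2f3e3d2c2130332203121100

theorem kill_small0big : Side.checkCross (SAsmall0 0) EB P D kes_small0big kal_small0big = true ∧
    Side.spoils UBbig.O kal_small0big = true := ⟨by decide +kernel, by decide +kernel⟩

def kes_small1small : List Side.Expn := [⟨1, [], [], 1, 129⟩, ⟨2, [], [], 2, 130⟩, ⟨15, [0, 1, 1, 0, 1, 1], [1, 1, 0, 1, 1], 40, 10240⟩, ⟨2, [0, 1, 1, 0, 1, 1], [1, 1, 0, 1, 1], 68, 10351⟩, ⟨16, [], [], 128, 2⟩, ⟨13, [1, 1, 0, 1, 1], [0], 8960, 9028⟩]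

noncomputable def kal_small1small : Nat → Nat := getField 8 0x273635241706051419080b1a29383b2a25343726150407161b0a09182b3a39280f1e1d0c3f2e2d3c31202332011013020d1c1f0e3d2c2f3e3322213003121100

theorem kill_small1small : Side.checkCross (SAsmall0 1) EB P D kes_small1small kal_small1small = true ∧
    Side.spoils UBsmall.O kal_small1small = true := ⟨by decide +kernel, by decide +kernel⟩

def kes_small1big : List Side.Expn := [⟨1, [], [], 1, 129⟩, ⟨2, [], [], 2, 130⟩, ⟨15, [0, 1, 1, 0, 1, 1], [1, 1, 0, 1, 1], 40, 10240⟩, ⟨2, [0, 1, 1, 0, 1, 1], [1, 1, 0, 1, 1], 68, 10351⟩, ⟨16, [], [], 128, 2⟩, ⟨13, [1, 1, 0, 1, 1], [0], 8960, 9028⟩]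

noncomputable def kal_small1big : Nat → Nat := getField 8 0x273635241706051419080b1a29383b2a25343726150407161b0a09182b3a39280f1e1d0c3f2e2d3c31202332011013020d1c1f0e3d2c2f3e3322213003121100

theorem kill_small1big : Side.checkCross (SAsmall0 1) EB P D kes_small1big kal_small1big = true ∧
    Side.spoils UBbig.O kal_small1big = true := ⟨by decide +kernel, by decide +kernel⟩

def kes_small2small : List Side.Expn := [⟨1, [], [], 1, 129⟩, ⟨2, [], [], 2, 130⟩, ⟨0, [0, 1, 1, 0, 1, 1], [1, 1, 0, 1, 1], 40, 8963⟩, ⟨13, [0, 1, 1, 0, 1, 1], [1, 1, 0, 1, 1], 68, 9068⟩, ⟨16, [], [], 128, 2⟩, ⟨3, [1, 1, 0, 1, 1], [0], 8960, 9000⟩]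

noncomputable def kal_small2small : Nat → Nat := getField 8 0x2b3a392808191a0b061714052534372629383b2a0a1b180904151607273635240f1e1d0c2c3d3e2f22333021011013020d1c1f0e2e3f3c2d2031322303121100

theorem kill_small2small : Side.checkCross (SAsmall0 2) EB P D kes_small2small kal_small2small = true ∧
    Side.spoils UBsmall.O kal_small2small = true := ⟨by decide +kernel, by decide +kernel⟩

def kes_small2big : List Side.Expn := [⟨1, [], [], 1, 129⟩, ⟨2, [], [], 2, 130⟩, ⟨0, [0, 1, 1, 0, 1, 1], [1, 1, 0, 1, 1], 40, 8963⟩, ⟨13, [0, 1, 1, 0, 1, 1], [1, 1, 0, 1, 1], 68, 9068⟩, ⟨16, [], [], 128, 2⟩, ⟨3, [1, 1, 0, 1, 1], [0], 8960, 9000⟩]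

noncomputable def kal_small2big : Nat → Nat := getField 8 0x2b3a392808191a0b061714052534372629383b2a0a1b180904151607273635240f1e1d0c2c3d3e2f22333021011013020d1c1f0e2e3f3c2d2031322303121100

theorem kill_small2big : Side.checkCross (SAsmall0 2) EB P D kes_small2big kal_small2big = true ∧
    Side.spoils UBbig.O kal_small2big = true := ⟨by decide +kernel, by decide +kernel⟩

def kes_small3small : List Side.Expn := [⟨1, [], [], 1, 129⟩, ⟨2, [], [], 2, 130⟩, ⟨15, [0, 1, 1, 0, 1, 1], [1, 1, 0, 1, 1], 40, 10241⟩, ⟨2, [0, 1, 1, 0, 1, 1], [1, 1, 0, 1, 1], 68, 10350⟩, ⟨16, [], [], 128, 2⟩, ⟨12, [1, 1, 0, 1, 1], [0], 8960, 10308⟩]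

noncomputable def kal_small3small : Nat → Nat := getField 8 0x372625340617140508191a0b39282b3a35242736041516070a1b18093b2a29380f1e1d0c3e2f2c3d30212233011013020d1c1f0e3c2d2e3f3223203103121100

theorem kill_small3small : Side.checkCross (SAsmall0 3) EB P D kes_small3small kal_small3small = true ∧
    Side.spoils UBsmall.O kal_small3small = true := ⟨by decide +kernel, by decide +kernel⟩

def kes_big0big : List Side.Expn := [⟨1, [], [], 1, 129⟩, ⟨2, [], [], 2, 130⟩, ⟨0, [0, 1, 1, 0, 1, 1], [1, 1, 0, 1, 1], 40, 8962⟩, ⟨13, [0, 1, 1, 0, 1, 1], [1, 1, 0, 1, 1], 68, 9069⟩, ⟨16, [], [], 128, 2⟩, ⟨2, [1, 1, 0, 1, 1], [0], 8960, 10280⟩]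

noncomputable def kal_big0big : Nat → Nat := getField 8 0x3b2a293819080b1a170605143524273639282b3a1b0a091815040716372625340f1e1d0c2d3c3f2e23323120011013020d1c1f0e2f3e3d2c2130332203121100

theorem kill_big0big : Side.checkCross (SAbig0 0) EB P D kes_big0big kal_big0big = true ∧
    Side.spoils UBbig.O kal_big0big = true := ⟨by decide +kernel, by decide +kernel⟩

def kes_big1small : List Side.Expn := [⟨1, [], [], 1, 129⟩, ⟨2, [], [], 2, 130⟩, ⟨15, [0, 1, 1, 0, 1, 1], [1, 1, 0, 1, 1], 40, 10240⟩, ⟨2, [0, 1, 1, 0, 1, 1], [1, 1, 0, 1, 1], 68, 10351⟩, ⟨16, [], [], 128, 2⟩, ⟨13, [1, 1, 0, 1, 1], [0], 8960, 9028⟩]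

noncomputable def kal_big1small : Nat → Nat := getField 8 0x273635241706051419080b1a29383b2a25343726150407161b0a09182b3a39280f1e1d0c3f2e2d3c31202332011013020d1c1f0e3d2c2f3e3322213003121100

theorem kill_big1small : Side.checkCross (SAbig0 1) EB P D kes_big1small kal_big1small = true ∧
    Side.spoils UBsmall.O kal_big1small = true := ⟨by decide +kernel, by decide +kernel⟩

def kes_big1big : List Side.Expn := [⟨1, [], [], 1, 129⟩, ⟨2, [], [], 2, 130⟩, ⟨15, [0, 1, 1, 0, 1, 1], [1, 1, 0, 1, 1], 40, 10240⟩, ⟨2, [0, 1, 1, 0, 1, 1], [1, 1, 0, 1, 1], 68, 10351⟩, ⟨16, [], [], 128, 2⟩, ⟨13, [1, 1, 0, 1, 1], [0], 8960, 9028⟩]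

noncomputable def kal_big1big : Nat → Nat := getField 8 0x273635241706051419080b1a29383b2a25343726150407161b0a09182b3a39280f1e1d0c3f2e2d3c31202332011013020d1c1f0e3d2c2f3e3322213003121100

theorem kill_big1big : Side.checkCross (SAbig0 1) EB P D kes_big1big kal_big1big = true ∧
    Side.spoils UBbig.O kal_big1big = true := ⟨by decide +kernel, by decide +kernel⟩

def kes_big2small : List Side.Expn := [⟨1, [], [], 1, 129⟩, ⟨2, [], [], 2, 130⟩, ⟨0, [0, 1, 1, 0, 1, 1], [1, 1, 0, 1, 1], 40, 8963⟩, ⟨13, [0, 1, 1, 0, 1, 1], [1, 1, 0, 1, 1], 68, 9068⟩, ⟨16, [], [], 128, 2⟩, ⟨3, [1, 1, 0, 1, 1], [0], 8960, 9000⟩]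

noncomputable def kal_big2small : Nat → Nat := getField 8 0x2b3a392808191a0b061714052534372629383b2a0a1b180904151607273635240f1e1d0c2c3d3e2f22333021011013020d1c1f0e2e3f3c2d2031322303121100

theorem kill_big2small : Side.checkCross (SAbig0 2) EB P D kes_big2small kal_big2small = true ∧
    Side.spoils UBsmall.O kal_big2small = true := ⟨by decide +kernel, by decide +kernel⟩

def kes_big2big : List Side.Expn := [⟨1, [], [], 1, 129⟩, ⟨2, [], [], 2, 130⟩, ⟨0, [0, 1, 1, 0, 1, 1], [1, 1, 0, 1, 1], 40, 8963⟩, ⟨13, [0, 1, 1, 0, 1, 1], [1, 1, 0, 1, 1], 68, 9068⟩, ⟨16, [], [], 128, 2⟩, ⟨3, [1, 1, 0, 1, 1], [0], 8960, 9000⟩]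

noncomputable def kal_big2big : Nat → Nat := getField 8 0x2b3a392808191a0b061714052534372629383b2a0a1b180904151607273635240f1e1d0c2c3d3e2f22333021011013020d1c1f0e2e3f3c2d2031322303121100

theorem kill_big2big : Side.checkCross (SAbig0 2) EB P D kes_big2big kal_big2big = true ∧
    Side.spoils UBbig.O kal_big2big = true := ⟨by decide +kernel, by decide +kernel⟩

def kes_big3small : List Side.Expn := [⟨1, [], [], 1, 129⟩, ⟨2, [], [], 2, 130⟩, ⟨15, [0, 1, 1, 0, 1, 1], [1, 1, 0, 1, 1], 40, 10241⟩, ⟨2, [0, 1, 1, 0, 1, 1], [1, 1, 0, 1, 1], 68, 10350⟩, ⟨16, [], [], 128, 2⟩, ⟨12, [1, 1, 0, 1, 1], [0], 8960, 10308⟩]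

noncomputable def kal_big3small : Nat → Nat := getField 8 0x372625340617140508191a0b39282b3a35242736041516070a1b18093b2a29380f1e1d0c3e2f2c3d30212233011013020d1c1f0e3c2d2e3f3223203103121100

theorem kill_big3small : Side.checkCross (SAbig0 3) EB P D kes_big3small kal_big3small = true ∧
    Side.spoils UBsmall.O kal_big3small = true := ⟨by decide +kernel, by decide +kernel⟩


end Cfsg.Agent.HeRecog.M8a
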