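import Cfsg.Agent.HeRecog.M8a.SideA
import Cfsg.Agent.HeRecog.M8a.SideB

/-! Generated: translations surviving in the live combinations. -/

set_option autoImplicit false
set_option maxRecDepth 100000

namespace Cfsg.Agent.HeRecog.M8a

open Cfsg.Agent.Compute Cfsg.Agent.CosetCert

def ces_small0small : List Side.Expn := [⟨1, [], [], 1, 129⟩, ⟨2, [], [], 2, 130⟩, ⟨0, [0, 1, 1, 0, 1, 1], [1, 1, 0, 1, 1], 40, 8962⟩, ⟨13, [0, 1, 1, 0, 1, 1], [1, 1, 0, 1, 1], 68, 9069⟩, ⟨16, [], [], 128, 2⟩, ⟨2, [1, 1, 0, 1, 1], [0], 8960, 10280⟩]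

theorem cross_small0small : Side.checkCross (SAsmall0 0) EB P D ces_small0small (matBsmall0 2) = true := by decide +kernel

def ps_small0small0 : List (Side.Expn × Side.Expn) := [(⟨4, [], [], 12, 9531⟩, ⟨1, [0, 1, 1, 0, 1, 1], [1, 1, 0, 1, 1], 12, 10836⟩)]

theorem pairs_small0small0 : Side.checkPairs (SAsmall0 0) (SBsmall0 0) P D ps_small0small0 = true := by decide +kernel

theorem surv_small0small0 : allFrom (fun e => !Side.survives (SAsmall0 0) (SBsmall0 0) P D ps_small0small0 e || List.contains [] e) 0 64 = true := by decide +kernel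

def ps_small0small1 : List (Side.Expn × Side.Expn) := [(⟨4, [], [], 12, 9531⟩, ⟨12, [0, 1, 1, 0, 1, 1], [1, 1, 0, 1, 1], 12, 9530⟩)]

theorem pairs_small0small1 : Side.checkPairs (SAsmall0 0) (SBsmall0 1) P D ps_small0small1 = true := by decide +kernel

theorem surv_small0small1 : allFrom (fun e => !Side.survives (SAsmall0 0) (SBsmall0 1) P D ps_small0small1 e || List.contains [] e) 0 64 = true := by decide +kernel

def ps_small0small2 : List (Side.Expn × Side.Expn) := [(⟨4, [], [], 12, 9531⟩, ⟨1, [0, 1, 1, 0, 1, 1], [1, 1, 0, 1, 1], 12, 10837⟩)]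

theorem pairs_small0small2 : Side.checkPairs (SAsmall0 0) (SBsmall0 2) P D ps_small0small2 = true := by decide +kernel

theorem surv_small0small2 : allFrom (fun e => !Side.survives (SAsmall0 0) (SBsmall0 2) P D ps_small0small2 e || List.contains [] e) 0 64 = true := by decide +kernel

def ps_small0small3 : List (Side.Expn × Side.Expn) := [(⟨4, [], [], 12, 9531⟩, ⟨12, [0, 1, 1, 0, 1, 1], [1, 1, 0, 1, 1], 12, 9531⟩)]

theorem pairs_small0small3 : Side.checkPairs (SAsmall0 0) (SBsmall0 3) P D ps_small0small3 = true := by decide +kernel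

theorem surv_small0small3 : allFrom (fun e => !Side.survives (SAsmall0 0) (SBsmall0 3) P D ps_small0small3 e || List.contains [0, 2, 16, 18] e) 0 64 = true := by decide +kernel

def ces_small3big : List Side.Expn := [⟨1, [], [], 1, 129⟩, ⟨2, [], [], 2, 130⟩, ⟨15, [0, 1, 1, 0, 1, 1], [1, 1, 0, 1, 1], 40, 10241⟩, ⟨2, [0, 1, 1, 0, 1, 1], [1, 1, 0, 1, 1], 68, 10350⟩, ⟨16, [], [], 128, 2⟩, ⟨12, [1, 1, 0, 1, 1], [0], 8960, 10308⟩]

theorem cross_small3big : Side.checkCross (SAsmall0 3) EB P D ces_small3big (matBbig0 2) = true := by decide +kernel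

def ps_small3big0 : List (Side.Expn × Side.Expn) := [(⟨4, [], [], 12, 9531⟩, ⟨1, [0, 1, 1, 0, 1, 1], [1, 1, 0, 1, 1], 12, 10836⟩)]

theorem pairs_small3big0 : Side.checkPairs (SAsmall0 3) (SBbig0 0) P D ps_small3big0 = true := by decide +kernel

theorem surv_small3big0 : allFrom (fun e => !Side.survives (SAsmall0 3) (SBbig0 0) P D ps_small3big0 e || List.contains [] e) 0 64 = true := by decide +kernel

def ps_small3big1 : List (Side.Expn × Side.Expn) := [(⟨4, [], [], 12, 9531⟩, ⟨12, [0, 1, 1, 0, 1, 1], [1, 1, 0, 1, 1], 12, 9530⟩)]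

theorem pairs_small3big1 : Side.checkPairs (SAsmall0 3) (SBbig0 1) P D ps_small3big1 = true := by decide +kernel

theorem surv_small3big1 : allFrom (fun e => !Side.survives (SAsmall0 3) (SBbig0 1) P D ps_small3big1 e || List.contains [] e) 0 64 = true := by decide +kernel

def ps_small3big2 : List (Side.Expn × Side.Expn) := [(⟨4, [], [], 12, 9531⟩, ⟨1, [0, 1, 1, 0, 1, 1], [1, 1, 0, 1, 1], 12, 10837⟩)]

theorem pairs_small3big2 : Side.checkPairs (SAsmall0 3) (SBbig0 2) P D ps_small3big2 = true := by decide +kernel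

theorem surv_small3big2 : allFrom (fun e => !Side.survives (SAsmall0 3) (SBbig0 2) P D ps_small3big2 e || List.contains [] e) 0 64 = true := by decide +kernel

def ps_small3big3 : List (Side.Expn × Side.Expn) := [(⟨4, [], [], 12, 9531⟩, ⟨12, [0, 1, 1, 0, 1, 1], [1, 1, 0, 1, 1], 12, 9531⟩)]

theorem pairs_small3big3 : Side.checkPairs (SAsmall0 3) (SBbig0 3) P D ps_small3big3 = true := by decide +kernel

theorem surv_small3big3 : allFrom (fun e => !Side.survives (SAsmall0 3) (SBbig0 3) P D ps_small3big3 e || List.contains [0, 2, 16, 18] e) 0 64 = true := by decide +kernel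

def ces_big0small : List Side.Expn := [⟨1, [], [], 1, 129⟩, ⟨2, [], [], 2, 130⟩, ⟨0, [0, 1, 1, 0, 1, 1], [1, 1, 0, 1, 1], 40, 8962⟩, ⟨13, [0, 1, 1, 0, 1, 1], [1, 1, 0, 1, 1], 68, 9069⟩, ⟨16, [], [], 128, 2⟩, ⟨2, [1, 1, 0, 1, 1], [0], 8960, 10280⟩]

theorem cross_big0small : Side.checkCross (SAbig0 0) EB P D ces_big0small (matBsmall0 2) = true := by decide +kernel

def ps_big0small0 : List (Side.Expn × Side.Expn) := [(⟨4, [], [], 12, 9528⟩, ⟨1, [0, 1, 1, 0, 1, 1], [1, 1, 0, 1, 1], 12, 10836⟩)]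

theorem pairs_big0small0 : Side.checkPairs (SAbig0 0) (SBsmall0 0) P D ps_big0small0 = true := by decide +kernel

theorem surv_big0small0 : allFrom (fun e => !Side.survives (SAbig0 0) (SBsmall0 0) P D ps_big0small0 e || List.contains [32, 34, 48, 50] e) 0 64 = true := by decide +kernel

def ps_big0small1 : List (Side.Expn × Side.Expn) := [(⟨4, [], [], 12, 9528⟩, ⟨12, [0, 1, 1, 0, 1, 1], [1, 1, 0, 1, 1], 12, 9530⟩)]

theorem pairs_big0small1 : Side.checkPairs (SAbig0 0) (SBsmall0 1) P D ps_big0small1 = true := by decide +kernel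

theorem surv_big0small1 : allFrom (fun e => !Side.survives (SAbig0 0) (SBsmall0 1) P D ps_big0small1 e || List.contains [] e) 0 64 = true := by decide +kernel

def ps_big0small2 : List (Side.Expn × Side.Expn) := [(⟨4, [], [], 12, 9528⟩, ⟨1, [0, 1, 1, 0, 1, 1], [1, 1, 0, 1, 1], 12, 10837⟩)]

theorem pairs_big0small2 : Side.checkPairs (SAbig0 0) (SBsmall0 2) P D ps_big0small2 = true := by decide +kernel

theorem surv_big0small2 : allFrom (fun e => !Side.survives (SAbig0 0) (SBsmall0 2) P D ps_big0small2 e || List.contains [] e) 0 64 = true := by decide +kernel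

def ps_big0small3 : List (Side.Expn × Side.Expn) := [(⟨4, [], [], 12, 9528⟩, ⟨12, [0, 1, 1, 0, 1, 1], [1, 1, 0, 1, 1], 12, 9531⟩)]

theorem pairs_big0small3 : Side.checkPairs (SAbig0 0) (SBsmall0 3) P D ps_big0small3 = true := by decide +kernel

theorem surv_big0small3 : allFrom (fun e => !Side.survives (SAbig0 0) (SBsmall0 3) P D ps_big0small3 e || List.contains [] e) 0 64 = true := by decide +kernel

def ces_big3big : List Side.Expn := [⟨1, [], [], 1, 129⟩, ⟨2, [], [], 2, 130⟩, ⟨15, [0, 1, 1, 0, 1, 1], [1, 1, 0, 1, 1], 40, 10241⟩, ⟨2, [0, 1, 1, 0, 1, 1], [1, 1, 0, 1, 1], 68, 10350⟩, ⟨16, [], [], 128, 2⟩, ⟨12, [1, 1, 0, 1, 1], [0], 8960, 10308⟩]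

theorem cross_big3big : Side.checkCross (SAbig0 3) EB P D ces_big3big (matBbig0 2) = true := by decide +kernel

def ps_big3big0 : List (Side.Expn × Side.Expn) := [(⟨4, [], [], 12, 9528⟩, ⟨1, [0, 1, 1, 0, 1, 1], [1, 1, 0, 1, 1], 12, 10836⟩)]

theorem pairs_big3big0 : Side.checkPairs (SAbig0 3) (SBbig0 0) P D ps_big3big0 = true := by decide +kernel

theorem surv_big3big0 : allFrom (fun e => !Side.survives (SAbig0 3) (SBbig0 0) P D ps_big3big0 e || List.contains [45, 47, 61, 63] e) 0 64 = true := by decide +kernel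

def ps_big3big1 : List (Side.Expn × Side.Expn) := [(⟨4, [], [], 12, 9528⟩, ⟨12, [0, 1, 1, 0, 1, 1], [1, 1, 0, 1, 1], 12, 9530⟩)]

theorem pairs_big3big1 : Side.checkPairs (SAbig0 3) (SBbig0 1) P D ps_big3big1 = true := by decide +kernel

theorem surv_big3big1 : allFrom (fun e => !Side.survives (SAbig0 3) (SBbig0 1) P D ps_big3big1 e || List.contains [] e) 0 64 = true := by decide +kernel

def ps_big3big2 : List (Side.Expn × Side.Expn) := [(⟨4, [], [], 12, 9528⟩, ⟨1, [0, 1, 1, 0, 1, 1], [1, 1, 0, 1, 1], 12, 10837⟩)]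

theorem pairs_big3big2 : Side.checkPairs (SAbig0 3) (SBbig0 2) P D ps_big3big2 = true := by decide +kernel

theorem surv_big3big2 : allFrom (fun e => !Side.survives (SAbig0 3) (SBbig0 2) P D ps_big3big2 e || List.contains [] e) 0 64 = true := by decide +kernel

def ps_big3big3 : List (Side.Expn × Side.Expn) := [(⟨4, [], [], 12, 9528⟩, ⟨12, [0, 1, 1, 0, 1, 1], [1, 1, 0, 1, 1], 12, 9531⟩)]

theorem pairs_big3big3 : Side.checkPairs (SAbig0 3) (SBbig0 3) P D ps_big3big3 = true := by decide +kernel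

theorem surv_big3big3 : allFrom (fun e => !Side.survives (SAbig0 3) (SBbig0 3) P D ps_big3big3 e || List.contains [] e) 0 64 = true := by decide +kernel


end Cfsg.Agent.HeRecog.M8a
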