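import Cfsg.Agent.HeRecog.M8a.Fuse
import Cfsg.Agent.HeRecog.M8a.Kills
import Cfsg.Agent.HeRecog.M8a.Live
import Cfsg.Agent.HeRecog.Combine
import Cfsg.Agent.HeRecog.M8a.BS32Col.Main
import Cfsg.Agent.HeRecog.M8a.BS34ColW.Main
import Cfsg.Agent.HeRecog.M8a.BS34Pow.Main
import Cfsg.Agent.HeRecog.M8a.BB45Col.Main
import Cfsg.Agent.HeRecog.M8a.BB47Idx.Main
import Cfsg.Agent.HeRecog.M8a.BB47Chk
import Cfsg.Agent.HeRecog.M8a.SS0Col.Main
import Cfsg.Agent.HeRecog.M8a.SS2ColW.Main
import Cfsg.Agent.HeRecog.M8a.SS2Pow.Main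
import Cfsg.Agent.HeRecog.M8a.SB0Col.Main
import Cfsg.Agent.HeRecog.M8a.SB2ColW.Main
import Cfsg.Agent.HeRecog.M8a.SB2Pow.Main

/-! Recognition for the model. -/

set_option autoImplicit false
set_option linter.all false
set_option maxRecDepth 100000

namespace Cfsg.Agent.HeRecog.M8a

open Cfsg.Agent.CosetCert Cfsg.Agent.Compute

variable {G : Type*} [Group G] [Finite G] {t : G} {co : Coord D t} {x y m l : G}

theorem case_BS32 (h : BS32.L.Ok P K co x y m l) : False :=
  Letters.collapse h BS32.RS_ok BS32Col.mem_valid BS32Col.fits (by decide +kernel) BS32Col.walk_ok BS32.first_ok BS32.SS_ok BS32.outside_ok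

theorem case_BS34 (h : BS34.L.Ok P K co x y m l) (hG : Nat.card G = 4030387200) : False := by
  have := Letters.order_dvd (p := 23) h BS34.RS_ok (word := BS34.word) (by decide +kernel) BS34.first_ok BS34.SS_ok BS34.outside_ok
    BS34ColW.mem_valid BS34ColW.fits (by decide +kernel) BS34ColW.walk_ok (by norm_num) BS34Pow.mem_valid BS34Pow.fits BS34Pow.walk_ok
  rw [hG] at this
  omega

theorem case_BB45 (h : BB45.L.Ok P K co x y m l) : False :=
  Letters.collapse h BB45.RS_ok BB45Col.mem_valid BB45Col.fits (by decide +kernel) BB45Col.walk_ok BB45.first_ok BB45.SS_ok BB45.outside_ok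

theorem case_BB47 (h : BB47.L.Ok P K co x y m l)
    (hC : Nat.card (Subgroup.centralizer ({t} : Set G)) = 21504) (hG : Nat.card G = 4030387200) : Cfsg.Spor.IsoHe G :=
  HeData.identify h BB47.RS_ok BB47Idx.log_valid rfl BB47Idx.fits BB47.same_ok BB47.SS_ok BB47.count_ok BB47.img_ok
    BB47.rels_ok BB47.onto_ok BB47.U_ok BB47.conj_ok BB47.pre_ok hC hG

theorem case_SS0 (h : SS0.L.Ok P K co x y m l) : False :=
  Letters.collapse h SS0.RS_ok SS0Col.mem_valid SS0Col.fits (by decide +kernel) SS0Col.walk_ok SS0.first_ok SS0.SS_ok SS0.outside_ok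

theorem case_SS2 (h : SS2.L.Ok P K co x y m l) (hG : Nat.card G = 4030387200) : False := by
  have := Letters.order_dvd (p := 31) h SS2.RS_ok (word := SS2.word) (by decide +kernel) SS2.first_ok SS2.SS_ok SS2.outside_ok
    SS2ColW.mem_valid SS2ColW.fits (by decide +kernel) SS2ColW.walk_ok (by norm_num) SS2Pow.mem_valid SS2Pow.fits SS2Pow.walk_ok
  rw [hG] at this
  omega

theorem case_SB0 (h : SB0.L.Ok P K co x y m l) : False :=
  Letters.collapse h SB0.RS_ok SB0Col.mem_valid SB0Col.fits (by decide +kernel) SB0Col.walk_ok SB0.first_ok SB0.SS_ok SB0.outside_ok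

theorem case_SB2 (h : SB2.L.Ok P K co x y m l) (hG : Nat.card G = 4030387200) : False := by
  have := Letters.order_dvd (p := 23) h SB2.RS_ok (word := SB2.word) (by decide +kernel) SB2.first_ok SB2.SS_ok SB2.outside_ok
    SB2ColW.mem_valid SB2ColW.fits (by decide +kernel) SB2ColW.walk_ok (by norm_num) SB2Pow.mem_valid SB2Pow.fits SB2Pow.walk_ok
  rw [hG] at this
  omega

theorem pair_small_small (hC : Nat.card (Subgroup.centralizer ({t} : Set G)) = 21504)
    (hG : Nat.card G = 4030387200) (hFA : Fused UAsmall EA co) (hFB : Fused UBsmall EB co) : Cfsg.Spor.IsoHe G := by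
  have ht1 : UAsmall.O.testBit 1 = true := by decide +kernel
  have ht1' : UBsmall.O.testBit 1 = true := by decide +kernel
  obtain ⟨j, hj, x, hF⟩ := CompData.setup CAsmall_valid CAsmall_side pair_valid EA_valid UAsmall_valid hFA ht1
  have hj : j < 4 := hj
  change Frame (SAsmall0 j) co x at hF
  interval_cases j
  · obtain ⟨i, hi, y, hF'⟩ := CompData.setup CBsmall_valid CBsmall_side pair_valid EB_valid UBsmall_valid hFB ht1'
    have hi : i < 4 := hi
    change Frame (SBsmall0 i) co y at hF'
    interval_cases i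
    · obtain ⟨m, l, e, hm, hl, he, hme, hs⟩ := Side.live SAsmall0_0 SBsmall0_0 pair_valid EA_valid EB_valid
        UAsmall_valid UBsmall_valid hFA hFB ht1 ht1' hF hF' (by decide +kernel) (by decide +kernel) cross_small0small pairs_small0small0
      have hmem := Tables.all_lt surv_small0small0 he
      rw [hs] at hmem
      simp at hmem
    · obtain ⟨m, l, e, hm, hl, he, hme, hs⟩ := Side.live SAsmall0_0 SBsmall0_1 pair_valid EA_valid EB_valid
        UAsmall_valid UBsmall_valid hFA hFB ht1 ht1' hF hF' (by decide +kernel) (by decide +kernel) cross_small0small pairs_small0small1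
      have hmem := Tables.all_lt surv_small0small1 he
      rw [hs] at hmem
      simp at hmem
    · obtain ⟨m, l, e, hm, hl, he, hme, hs⟩ := Side.live SAsmall0_0 SBsmall0_2 pair_valid EA_valid EB_valid
        UAsmall_valid UBsmall_valid hFA hFB ht1 ht1' hF hF' (by decide +kernel) (by decide +kernel) cross_small0small pairs_small0small2
      have hmem := Tables.all_lt surv_small0small2 he
      rw [hs] at hmem
      simp at hmem
    · obtain ⟨m, l, e, hm, hl, he, hme, hs⟩ := Side.live SAsmall0_0 SBsmall0_3 pair_valid EA_valid EB_valid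
        UAsmall_valid UBsmall_valid hFA hFB ht1 ht1' hF hF' (by decide +kernel) (by decide +kernel) cross_small0small pairs_small0small3
      have hmem := Tables.all_lt surv_small0small3 he
      rw [hs] at hmem
      simp at hmem
      have mk : ∀ (e : Nat) (y m l : G), e < 64 → Frame (SBsmall0 3) co y → (EA.Induces co m (matAsmall0 2) ∧ InL x m) →
          (EB.Induces co l (matBsmall0 2) ∧ InL y l) → m = EB.E co e * l → ∀ L : Letters, L.A = SAsmall0 0 →
          L.B = SBsmall0 3 → L.e = e → L.checkGens = true → L.Ok P K co x y m l := by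
        rintro e y m l he hF' hm hl hme ⟨A', B', e', g⟩ rfl rfl rfl hg
        exact ⟨pair_valid, SAsmall0_0, SBsmall0_3, EA_valid, EB_valid, UAsmall_valid, UBsmall_valid, hg, hF, hF', hm, hl, he, hme⟩
      obtain ⟨y', l', hF'', hl', hfl⟩ := Side.flip SBsmall0_3 EB_valid hF' hl he
      rw [hfl] at hme
      rcases hmem with rfl | rfl | rfl | rfl
      · exact (case_SS0 (mk 0 y m l (by norm_num) hF' hm hl (hme.trans hfl.symm) _ rfl rfl rfl SS0.gens_ok)).elim
      · exact (case_SS2 (mk 2 y m l (by norm_num) hF' hm hl (hme.trans hfl.symm) _ rfl rfl rfl SS2.gens_ok) hG).elim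
      · exact (case_SS0 (mk 0 y' m l' (by norm_num) hF'' hm hl' hme _ rfl rfl rfl SS0.gens_ok)).elim
      · exact (case_SS2 (mk 2 y' m l' (by norm_num) hF'' hm hl' hme _ rfl rfl rfl SS2.gens_ok) hG).elim
  · exact (Side.kill SAsmall0_1 pair_valid EA_valid UAsmall_valid hFA ht1 hF EB_valid hFB kill_small1small.1 kill_small1small.2).elim
  · exact (Side.kill SAsmall0_2 pair_valid EA_valid UAsmall_valid hFA ht1 hF EB_valid hFB kill_small2small.1 kill_small2small.2).elim
  · exact (Side.kill SAsmall0_3 pair_valid EA_valid UAsmall_valid hFA ht1 hF EB_valid hFB kill_small3small.1 kill_small3small.2).elim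

theorem pair_small_big (hC : Nat.card (Subgroup.centralizer ({t} : Set G)) = 21504)
    (hG : Nat.card G = 4030387200) (hFA : Fused UAsmall EA co) (hFB : Fused UBbig EB co) : Cfsg.Spor.IsoHe G := by
  have ht1 : UAsmall.O.testBit 1 = true := by decide +kernel
  have ht1' : UBbig.O.testBit 1 = true := by decide +kernel
  obtain ⟨j, hj, x, hF⟩ := CompData.setup CAsmall_valid CAsmall_side pair_valid EA_valid UAsmall_valid hFA ht1
  have hj : j < 4 := hj
  change Frame (SAsmall0 j) co x at hF
  interval_cases j
  · exact (Side.kill SAsmall0_0 pair_valid EA_valid UAsmall_valid hFA ht1 hF EB_valid hFB kill_small0big.1 kill_small0big.2).elim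
  · exact (Side.kill SAsmall0_1 pair_valid EA_valid UAsmall_valid hFA ht1 hF EB_valid hFB kill_small1big.1 kill_small1big.2).elim
  · exact (Side.kill SAsmall0_2 pair_valid EA_valid UAsmall_valid hFA ht1 hF EB_valid hFB kill_small2big.1 kill_small2big.2).elim
  · obtain ⟨i, hi, y, hF'⟩ := CompData.setup CBbig_valid CBbig_side pair_valid EB_valid UBbig_valid hFB ht1'
    have hi : i < 4 := hi
    change Frame (SBbig0 i) co y at hF'
    interval_cases i
    · obtain ⟨m, l, e, hm, hl, he, hme, hs⟩ := Side.live SAsmall0_3 SBbig0_0 pair_valid EA_valid EB_valid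
        UAsmall_valid UBbig_valid hFA hFB ht1 ht1' hF hF' (by decide +kernel) (by decide +kernel) cross_small3big pairs_small3big0
      have hmem := Tables.all_lt surv_small3big0 he
      rw [hs] at hmem
      simp at hmem
    · obtain ⟨m, l, e, hm, hl, he, hme, hs⟩ := Side.live SAsmall0_3 SBbig0_1 pair_valid EA_valid EB_valid
        UAsmall_valid UBbig_valid hFA hFB ht1 ht1' hF hF' (by decide +kernel) (by decide +kernel) cross_small3big pairs_small3big1
      have hmem := Tables.all_lt surv_small3big1 he
      rw [hs] at hmem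
      simp at hmem
    · obtain ⟨m, l, e, hm, hl, he, hme, hs⟩ := Side.live SAsmall0_3 SBbig0_2 pair_valid EA_valid EB_valid
        UAsmall_valid UBbig_valid hFA hFB ht1 ht1' hF hF' (by decide +kernel) (by decide +kernel) cross_small3big pairs_small3big2
      have hmem := Tables.all_lt surv_small3big2 he
      rw [hs] at hmem
      simp at hmem
    · obtain ⟨m, l, e, hm, hl, he, hme, hs⟩ := Side.live SAsmall0_3 SBbig0_3 pair_valid EA_valid EB_valid
        UAsmall_valid UBbig_valid hFA hFB ht1 ht1' hF hF' (by decide +kernel) (by decide +kernel) cross_small3big pairs_small3big3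
      have hmem := Tables.all_lt surv_small3big3 he
      rw [hs] at hmem
      simp at hmem
      have mk : ∀ (e : Nat) (y m l : G), e < 64 → Frame (SBbig0 3) co y → (EA.Induces co m (matAsmall0 2) ∧ InL x m) →
          (EB.Induces co l (matBbig0 2) ∧ InL y l) → m = EB.E co e * l → ∀ L : Letters, L.A = SAsmall0 3 →
          L.B = SBbig0 3 → L.e = e → L.checkGens = true → L.Ok P K co x y m l := by
        rintro e y m l he hF' hm hl hme ⟨A', B', e', g⟩ rfl rfl rfl hg
        exact ⟨pair_valid, SAsmall0_3, SBbig0_3, EA_valid, EB_valid, UAsmall_valid, UBbig_valid, hg, hF, hF', hm, hl, he, hme⟩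
      obtain ⟨y', l', hF'', hl', hfl⟩ := Side.flip SBbig0_3 EB_valid hF' hl he
      rw [hfl] at hme
      rcases hmem with rfl | rfl | rfl | rfl
      · exact (case_SB0 (mk 0 y m l (by norm_num) hF' hm hl (hme.trans hfl.symm) _ rfl rfl rfl SB0.gens_ok)).elim
      · exact (case_SB2 (mk 2 y m l (by norm_num) hF' hm hl (hme.trans hfl.symm) _ rfl rfl rfl SB2.gens_ok) hG).elim
      · exact (case_SB0 (mk 0 y' m l' (by norm_num) hF'' hm hl' hme _ rfl rfl rfl SB0.gens_ok)).elim
      · exact (case_SB2 (mk 2 y' m l' (by norm_num) hF'' hm hl' hme _ rfl rfl rfl SB2.gens_ok) hG).elim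

theorem pair_big_small (hC : Nat.card (Subgroup.centralizer ({t} : Set G)) = 21504)
    (hG : Nat.card G = 4030387200) (hFA : Fused UAbig EA co) (hFB : Fused UBsmall EB co) : Cfsg.Spor.IsoHe G := by
  have ht1 : UAbig.O.testBit 1 = true := by decide +kernel
  have ht1' : UBsmall.O.testBit 1 = true := by decide +kernel
  obtain ⟨j, hj, x, hF⟩ := CompData.setup CAbig_valid CAbig_side pair_valid EA_valid UAbig_valid hFA ht1
  have hj : j < 4 := hj
  change Frame (SAbig0 j) co x at hF
  interval_cases j
  · obtain ⟨i, hi, y, hF'⟩ := CompData.setup CBsmall_valid CBsmall_side pair_valid EB_valid UBsmall_valid hFB ht1'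
    have hi : i < 4 := hi
    change Frame (SBsmall0 i) co y at hF'
    interval_cases i
    · obtain ⟨m, l, e, hm, hl, he, hme, hs⟩ := Side.live SAbig0_0 SBsmall0_0 pair_valid EA_valid EB_valid
        UAbig_valid UBsmall_valid hFA hFB ht1 ht1' hF hF' (by decide +kernel) (by decide +kernel) cross_big0small pairs_big0small0
      have hmem := Tables.all_lt surv_big0small0 he
      rw [hs] at hmem
      simp at hmem
      have mk : ∀ (e : Nat) (y m l : G), e < 64 → Frame (SBsmall0 0) co y → (EA.Induces co m (matAbig0 2) ∧ InL x m) →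
          (EB.Induces co l (matBsmall0 2) ∧ InL y l) → m = EB.E co e * l → ∀ L : Letters, L.A = SAbig0 0 →
          L.B = SBsmall0 0 → L.e = e → L.checkGens = true → L.Ok P K co x y m l := by
        rintro e y m l he hF' hm hl hme ⟨A', B', e', g⟩ rfl rfl rfl hg
        exact ⟨pair_valid, SAbig0_0, SBsmall0_0, EA_valid, EB_valid, UAbig_valid, UBsmall_valid, hg, hF, hF', hm, hl, he, hme⟩
      obtain ⟨y', l', hF'', hl', hfl⟩ := Side.flip SBsmall0_0 EB_valid hF' hl he
      rw [hfl] at hme
      rcases hmem with rfl | rfl | rfl | rfl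
      · exact (case_BS32 (mk 32 y m l (by norm_num) hF' hm hl (hme.trans hfl.symm) _ rfl rfl rfl BS32.gens_ok)).elim
      · exact (case_BS34 (mk 34 y m l (by norm_num) hF' hm hl (hme.trans hfl.symm) _ rfl rfl rfl BS34.gens_ok) hG).elim
      · exact (case_BS32 (mk 32 y' m l' (by norm_num) hF'' hm hl' hme _ rfl rfl rfl BS32.gens_ok)).elim
      · exact (case_BS34 (mk 34 y' m l' (by norm_num) hF'' hm hl' hme _ rfl rfl rfl BS34.gens_ok) hG).elim
    · obtain ⟨m, l, e, hm, hl, he, hme, hs⟩ := Side.live SAbig0_0 SBsmall0_1 pair_valid EA_valid EB_valid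
        UAbig_valid UBsmall_valid hFA hFB ht1 ht1' hF hF' (by decide +kernel) (by decide +kernel) cross_big0small pairs_big0small1
      have hmem := Tables.all_lt surv_big0small1 he
      rw [hs] at hmem
      simp at hmem
    · obtain ⟨m, l, e, hm, hl, he, hme, hs⟩ := Side.live SAbig0_0 SBsmall0_2 pair_valid EA_valid EB_valid
        UAbig_valid UBsmall_valid hFA hFB ht1 ht1' hF hF' (by decide +kernel) (by decide +kernel) cross_big0small pairs_big0small2
      have hmem := Tables.all_lt surv_big0small2 he
      rw [hs] at hmem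
      simp at hmem
    · obtain ⟨m, l, e, hm, hl, he, hme, hs⟩ := Side.live SAbig0_0 SBsmall0_3 pair_valid EA_valid EB_valid
        UAbig_valid UBsmall_valid hFA hFB ht1 ht1' hF hF' (by decide +kernel) (by decide +kernel) cross_big0small pairs_big0small3
      have hmem := Tables.all_lt surv_big0small3 he
      rw [hs] at hmem
      simp at hmem
  · exact (Side.kill SAbig0_1 pair_valid EA_valid UAbig_valid hFA ht1 hF EB_valid hFB kill_big1small.1 kill_big1small.2).elim
  · exact (Side.kill SAbig0_2 pair_valid EA_valid UAbig_valid hFA ht1 hF EB_valid hFB kill_big2small.1 kill_big2small.2).elim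
  · exact (Side.kill SAbig0_3 pair_valid EA_valid UAbig_valid hFA ht1 hF EB_valid hFB kill_big3small.1 kill_big3small.2).elim

theorem pair_big_big (hC : Nat.card (Subgroup.centralizer ({t} : Set G)) = 21504)
    (hG : Nat.card G = 4030387200) (hFA : Fused UAbig EA co) (hFB : Fused UBbig EB co) : Cfsg.Spor.IsoHe G := by
  have ht1 : UAbig.O.testBit 1 = true := by decide +kernel
  have ht1' : UBbig.O.testBit 1 = true := by decide +kernel
  obtain ⟨j, hj, x, hF⟩ := CompData.setup CAbig_valid CAbig_side pair_valid EA_valid UAbig_valid hFA ht1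
  have hj : j < 4 := hj
  change Frame (SAbig0 j) co x at hF
  interval_cases j
  · exact (Side.kill SAbig0_0 pair_valid EA_valid UAbig_valid hFA ht1 hF EB_valid hFB kill_big0big.1 kill_big0big.2).elim
  · exact (Side.kill SAbig0_1 pair_valid EA_valid UAbig_valid hFA ht1 hF EB_valid hFB kill_big1big.1 kill_big1big.2).elim
  · exact (Side.kill SAbig0_2 pair_valid EA_valid UAbig_valid hFA ht1 hF EB_valid hFB kill_big2big.1 kill_big2big.2).elim
  · obtain ⟨i, hi, y, hF'⟩ := CompData.setup CBbig_valid CBbig_side pair_valid EB_valid UBbig_valid hFB ht1'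
    have hi : i < 4 := hi
    change Frame (SBbig0 i) co y at hF'
    interval_cases i
    · obtain ⟨m, l, e, hm, hl, he, hme, hs⟩ := Side.live SAbig0_3 SBbig0_0 pair_valid EA_valid EB_valid
        UAbig_valid UBbig_valid hFA hFB ht1 ht1' hF hF' (by decide +kernel) (by decide +kernel) cross_big3big pairs_big3big0
      have hmem := Tables.all_lt surv_big3big0 he
      rw [hs] at hmem
      simp at hmem
      have mk : ∀ (e : Nat) (y m l : G), e < 64 → Frame (SBbig0 0) co y → (EA.Induces co m (matAbig0 2) ∧ InL x m) →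
          (EB.Induces co l (matBbig0 2) ∧ InL y l) → m = EB.E co e * l → ∀ L : Letters, L.A = SAbig0 3 →
          L.B = SBbig0 0 → L.e = e → L.checkGens = true → L.Ok P K co x y m l := by
        rintro e y m l he hF' hm hl hme ⟨A', B', e', g⟩ rfl rfl rfl hg
        exact ⟨pair_valid, SAbig0_3, SBbig0_0, EA_valid, EB_valid, UAbig_valid, UBbig_valid, hg, hF, hF', hm, hl, he, hme⟩
      obtain ⟨y', l', hF'', hl', hfl⟩ := Side.flip SBbig0_0 EB_valid hF' hl he
      rw [hfl] at hme
      rcases hmem with rfl | rfl | rfl | rfl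
      · exact (case_BB45 (mk 45 y m l (by norm_num) hF' hm hl (hme.trans hfl.symm) _ rfl rfl rfl BB45.gens_ok)).elim
      · exact case_BB47 (mk 47 y m l (by norm_num) hF' hm hl (hme.trans hfl.symm) _ rfl rfl rfl BB47.gens_ok) hC hG
      · exact (case_BB45 (mk 45 y' m l' (by norm_num) hF'' hm hl' hme _ rfl rfl rfl BB45.gens_ok)).elim
      · exact case_BB47 (mk 47 y' m l' (by norm_num) hF'' hm hl' hme _ rfl rfl rfl BB47.gens_ok) hC hG
    · obtain ⟨m, l, e, hm, hl, he, hme, hs⟩ := Side.live SAbig0_3 SBbig0_1 pair_valid EA_valid EB_valid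
        UAbig_valid UBbig_valid hFA hFB ht1 ht1' hF hF' (by decide +kernel) (by decide +kernel) cross_big3big pairs_big3big1
      have hmem := Tables.all_lt surv_big3big1 he
      rw [hs] at hmem
      simp at hmem
    · obtain ⟨m, l, e, hm, hl, he, hme, hs⟩ := Side.live SAbig0_3 SBbig0_2 pair_valid EA_valid EB_valid
        UAbig_valid UBbig_valid hFA hFB ht1 ht1' hF hF' (by decide +kernel) (by decide +kernel) cross_big3big pairs_big3big2
      have hmem := Tables.all_lt surv_big3big2 he
      rw [hs] at hmem
      simp at hmem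
    · obtain ⟨m, l, e, hm, hl, he, hme, hs⟩ := Side.live SAbig0_3 SBbig0_3 pair_valid EA_valid EB_valid
        UAbig_valid UBbig_valid hFA hFB ht1 ht1' hF hF' (by decide +kernel) (by decide +kernel) cross_big3big pairs_big3big3
      have hmem := Tables.all_lt surv_big3big3 he
      rw [hs] at hmem
      simp at hmem

/-- Groups with this model. -/
theorem recognise [IsSimpleGroup G] (co : Coord D t) (ht : orderOf t = 2)
    (hC : Nat.card (Subgroup.centralizer ({t} : Set G)) = 21504) (hG : Nat.card G = 4030387200) :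
    Cfsg.Spor.IsoHe G := by
  obtain ⟨r, hr⟩ := exists_fusedSet (P := P) classes co ht (by decide +kernel) (by decide +kernel)
  have hb : r < 32 := hr.bound
  have h := Tables.all_lt options_list hb
  simp only [Bool.or_eq_true, not_varies classes pair_valid ht hC hr (Or.inl rfl : EA = P.X ∨ EA = P.Y),
    not_varies classes pair_valid ht hC hr (Or.inr rfl : EB = P.X ∨ EB = P.Y), Bool.false_eq_true, or_false,
    List.contains_iff_mem] at h
  have hall : ∀ k ∈ K.allowed, k < K.reps.length := by decide +kernel
  have hblock : ∀ k, IsConj t (co.ψ (K.rep k)) → k ∈ K.allowed → inF K.allowed r k = true := fun k hc hk =>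
    (hr.iff k (hall k hk)).2 hc
  obtain ⟨k, hk, hkc⟩ := Classes.exists_fused co classes ht hC hG
  simp only [List.mem_cons, List.not_mem_nil, or_false] at h
  rcases h with rfl | rfl | rfl | rfl | rfl | rfl | rfl
  · have h0 : ∀ j ∈ K.allowed, inF K.allowed 0 j = false := by decide +kernel
    exact absurd (hblock k hkc hk) (by rw [h0 k hk]; exact Bool.false_ne_true)
  · have h1 : ∀ j ∈ K.allowed, inF K.allowed 1 j = true → j = 2 := by decide +kernel
    exact (Classes.block_absurd co classes ht hC hG (fun j hj hc => h1 j hj (hblock j hc hj))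
      ((hr.iff 2 (hall 2 (by decide +kernel))).1 (by decide +kernel)) (by decide +kernel) block2).elim
  · have h1 : ∀ j ∈ K.allowed, inF K.allowed 2 j = true → j = 3 := by decide +kernel
    exact (Classes.block_absurd co classes ht hC hG (fun j hj hc => h1 j hj (hblock j hc hj))
      ((hr.iff 3 (hall 3 (by decide +kernel))).1 (by decide +kernel)) (by decide +kernel) block3).elim
  · exact pair_small_small hC hG (fused_of_mask classes pair_valid ht hC hr (Or.inl rfl) mask7.1)
      (fused_of_mask classes pair_valid ht hC hr (Or.inr rfl) mask7.2)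
  · exact pair_big_small hC hG (fused_of_mask classes pair_valid ht hC hr (Or.inl rfl) mask15.1)
      (fused_of_mask classes pair_valid ht hC hr (Or.inr rfl) mask15.2)
  · exact pair_small_big hC hG (fused_of_mask classes pair_valid ht hC hr (Or.inl rfl) mask23.1)
      (fused_of_mask classes pair_valid ht hC hr (Or.inr rfl) mask23.2)
  · exact pair_big_big hC hG (fused_of_mask classes pair_valid ht hC hr (Or.inl rfl) mask31.1)
      (fused_of_mask classes pair_valid ht hC hr (Or.inr rfl) mask31.2)

end Cfsg.Agent.HeRecog.M8a
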