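import Cfsg.Agent.HeRecog.M8a.Recognise
import Cfsg.Agent.HeRecog.M8a.Fuse
import Cfsg.Agent.HeRecog.M8a.Kills
import Cfsg.Agent.HeRecog.M8a.Live
import Cfsg.Agent.HeRecog.Combine
import Cfsg.Agent.HeRecog.M8a.BS32Col.Main
import Cfsg.Agent.HeRecog.M8a.BS34ColW.Main
import Cfsg.Agent.HeRecog.M8a.BS34Pow.Main
import Cfsg.Agent.HeRecog.M8a.BB45Col.Main
import Cfsg.Agent.HeRecog.M8a.BB47Idx.Main
import Cfsg.Agent.HeRecog.M8a.BB47Chk
import Cfsg.Agent.HeRecog.M8a.SS0Col.Main
import Cfsg.Agent.HeRecog.M8a.SS2ColW.Main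
import Cfsg.Agent.HeRecog.M8a.SS2Pow.Main
import Cfsg.Agent.HeRecog.M8a.SB0Col.Main
import Cfsg.Agent.HeRecog.M8a.SB2ColW.Main
import Cfsg.Agent.HeRecog.M8a.SB2Pow.Main

/-! The three live configurations of the model, without an assumption on the order. -/

set_option autoImplicit false
set_option linter.all false
set_option maxRecDepth 100000

namespace Cfsg.Agent.HeRecog.M8a

open Cfsg.Agent.CosetCert Cfsg.Agent.Compute

variable {G : Type*} [Group G] [Finite G] {t : G} {co : Coord D t} {x y m l : G}

/-- A live configuration. -/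
theorem live_SS (hFA : Fused UAsmall EA co) (hFB : Fused UBsmall EB co) :
    ∃ x y m l, SS2.L.Ok P K co x y m l := by
  have ht1 : UAsmall.O.testBit 1 = true := by decide +kernel
  have ht1' : UBsmall.O.testBit 1 = true := by decide +kernel
  obtain ⟨j, hj, x, hF⟩ := CompData.setup CAsmall_valid CAsmall_side pair_valid EA_valid UAsmall_valid hFA ht1
  have hj : j < 4 := hj
  change Frame (SAsmall0 j) co x at hF
  interval_cases j
  · obtain ⟨i, hi, y, hF'⟩ := CompData.setup CBsmall_valid CBsmall_side pair_valid EB_valid UBsmall_valid hFB ht1'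
    have hi : i < 4 := hi
    change Frame (SBsmall0 i) co y at hF'
    interval_cases i
    · obtain ⟨m, l, e, hm, hl, he, hme, hs⟩ := Side.live SAsmall0_0 SBsmall0_0 pair_valid EA_valid EB_valid
        UAsmall_valid UBsmall_valid hFA hFB ht1 ht1' hF hF' (by decide +kernel) (by decide +kernel) cross_small0small pairs_small0small0
      have hmem := Tables.all_lt surv_small0small0 he
      rw [hs] at hmem
      simp at hmem
    · obtain ⟨m, l, e, hm, hl, he, hme, hs⟩ := Side.live SAsmall0_0 SBsmall0_1 pair_valid EA_valid EB_valid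
        UAsmall_valid UBsmall_valid hFA hFB ht1 ht1' hF hF' (by decide +kernel) (by decide +kernel) cross_small0small pairs_small0small1
      have hmem := Tables.all_lt surv_small0small1 he
      rw [hs] at hmem
      simp at hmem
    · obtain ⟨m, l, e, hm, hl, he, hme, hs⟩ := Side.live SAsmall0_0 SBsmall0_2 pair_valid EA_valid EB_valid
        UAsmall_valid UBsmall_valid hFA hFB ht1 ht1' hF hF' (by decide +kernel) (by decide +kernel) cross_small0small pairs_small0small2
      have hmem := Tables.all_lt surv_small0small2 he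
      rw [hs] at hmem
      simp at hmem
    · obtain ⟨m, l, e, hm, hl, he, hme, hs⟩ := Side.live SAsmall0_0 SBsmall0_3 pair_valid EA_valid EB_valid
        UAsmall_valid UBsmall_valid hFA hFB ht1 ht1' hF hF' (by decide +kernel) (by decide +kernel) cross_small0small pairs_small0small3
      have hmem := Tables.all_lt surv_small0small3 he
      rw [hs] at hmem
      simp at hmem
      have mk : ∀ (e : Nat) (y m l : G), e < 64 → Frame (SBsmall0 3) co y → (EA.Induces co m (matAsmall0 2) ∧ InL x m) →
          (EB.Induces co l (matBsmall0 2) ∧ InL y l) → m = EB.E co e * l → ∀ L : Letters, L.A = SAsmall0 0 →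
          L.B = SBsmall0 3 → L.e = e → L.checkGens = true → L.Ok P K co x y m l := by
        rintro e y m l he hF' hm hl hme ⟨A', B', e', g⟩ rfl rfl rfl hg
        exact ⟨pair_valid, SAsmall0_0, SBsmall0_3, EA_valid, EB_valid, UAsmall_valid, UBsmall_valid, hg, hF, hF', hm, hl, he, hme⟩
      obtain ⟨y', l', hF'', hl', hfl⟩ := Side.flip SBsmall0_3 EB_valid hF' hl he
      rw [hfl] at hme
      rcases hmem with rfl | rfl | rfl | rfl
      · exact (case_SS0 (mk 0 y m l (by norm_num) hF' hm hl (hme.trans hfl.symm) _ rfl rfl rfl SS0.gens_ok)).elim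
      · exact ⟨_, _, _, _, (mk 2 y m l (by norm_num) hF' hm hl (hme.trans hfl.symm) _ rfl rfl rfl SS2.gens_ok)⟩
      · exact (case_SS0 (mk 0 y' m l' (by norm_num) hF'' hm hl' hme _ rfl rfl rfl SS0.gens_ok)).elim
      · exact ⟨_, _, _, _, (mk 2 y' m l' (by norm_num) hF'' hm hl' hme _ rfl rfl rfl SS2.gens_ok)⟩
  · exact (Side.kill SAsmall0_1 pair_valid EA_valid UAsmall_valid hFA ht1 hF EB_valid hFB kill_small1small.1 kill_small1small.2).elim
  · exact (Side.kill SAsmall0_2 pair_valid EA_valid UAsmall_valid hFA ht1 hF EB_valid hFB kill_small2small.1 kill_small2small.2).elim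
  · exact (Side.kill SAsmall0_3 pair_valid EA_valid UAsmall_valid hFA ht1 hF EB_valid hFB kill_small3small.1 kill_small3small.2).elim

/-- A live configuration. -/
theorem live_BS (hFA : Fused UAbig EA co) (hFB : Fused UBsmall EB co) :
    ∃ x y m l, BS34.L.Ok P K co x y m l := by
  have ht1 : UAbig.O.testBit 1 = true := by decide +kernel
  have ht1' : UBsmall.O.testBit 1 = true := by decide +kernel
  obtain ⟨j, hj, x, hF⟩ := CompData.setup CAbig_valid CAbig_side pair_valid EA_valid UAbig_valid hFA ht1
  have hj : j < 4 := hj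
  change Frame (SAbig0 j) co x at hF
  interval_cases j
  · obtain ⟨i, hi, y, hF'⟩ := CompData.setup CBsmall_valid CBsmall_side pair_valid EB_valid UBsmall_valid hFB ht1'
    have hi : i < 4 := hi
    change Frame (SBsmall0 i) co y at hF'
    interval_cases i
    · obtain ⟨m, l, e, hm, hl, he, hme, hs⟩ := Side.live SAbig0_0 SBsmall0_0 pair_valid EA_valid EB_valid
        UAbig_valid UBsmall_valid hFA hFB ht1 ht1' hF hF' (by decide +kernel) (by decide +kernel) cross_big0small pairs_big0small0
      have hmem := Tables.all_lt surv_big0small0 he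
      rw [hs] at hmem
      simp at hmem
      have mk : ∀ (e : Nat) (y m l : G), e < 64 → Frame (SBsmall0 0) co y → (EA.Induces co m (matAbig0 2) ∧ InL x m) →
          (EB.Induces co l (matBsmall0 2) ∧ InL y l) → m = EB.E co e * l → ∀ L : Letters, L.A = SAbig0 0 →
          L.B = SBsmall0 0 → L.e = e → L.checkGens = true → L.Ok P K co x y m l := by
        rintro e y m l he hF' hm hl hme ⟨A', B', e', g⟩ rfl rfl rfl hg
        exact ⟨pair_valid, SAbig0_0, SBsmall0_0, EA_valid, EB_valid, UAbig_valid, UBsmall_valid, hg, hF, hF', hm, hl, he, hme⟩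
      obtain ⟨y', l', hF'', hl', hfl⟩ := Side.flip SBsmall0_0 EB_valid hF' hl he
      rw [hfl] at hme
      rcases hmem with rfl | rfl | rfl | rfl
      · exact (case_BS32 (mk 32 y m l (by norm_num) hF' hm hl (hme.trans hfl.symm) _ rfl rfl rfl BS32.gens_ok)).elim
      · exact ⟨_, _, _, _, (mk 34 y m l (by norm_num) hF' hm hl (hme.trans hfl.symm) _ rfl rfl rfl BS34.gens_ok)⟩
      · exact (case_BS32 (mk 32 y' m l' (by norm_num) hF'' hm hl' hme _ rfl rfl rfl BS32.gens_ok)).elim
      · exact ⟨_, _, _, _, (mk 34 y' m l' (by norm_num) hF'' hm hl' hme _ rfl rfl rfl BS34.gens_ok)⟩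
    · obtain ⟨m, l, e, hm, hl, he, hme, hs⟩ := Side.live SAbig0_0 SBsmall0_1 pair_valid EA_valid EB_valid
        UAbig_valid UBsmall_valid hFA hFB ht1 ht1' hF hF' (by decide +kernel) (by decide +kernel) cross_big0small pairs_big0small1
      have hmem := Tables.all_lt surv_big0small1 he
      rw [hs] at hmem
      simp at hmem
    · obtain ⟨m, l, e, hm, hl, he, hme, hs⟩ := Side.live SAbig0_0 SBsmall0_2 pair_valid EA_valid EB_valid
        UAbig_valid UBsmall_valid hFA hFB ht1 ht1' hF hF' (by decide +kernel) (by decide +kernel) cross_big0small pairs_big0small2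
      have hmem := Tables.all_lt surv_big0small2 he
      rw [hs] at hmem
      simp at hmem
    · obtain ⟨m, l, e, hm, hl, he, hme, hs⟩ := Side.live SAbig0_0 SBsmall0_3 pair_valid EA_valid EB_valid
        UAbig_valid UBsmall_valid hFA hFB ht1 ht1' hF hF' (by decide +kernel) (by decide +kernel) cross_big0small pairs_big0small3
      have hmem := Tables.all_lt surv_big0small3 he
      rw [hs] at hmem
      simp at hmem
  · exact (Side.kill SAbig0_1 pair_valid EA_valid UAbig_valid hFA ht1 hF EB_valid hFB kill_big1small.1 kill_big1small.2).elim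
  · exact (Side.kill SAbig0_2 pair_valid EA_valid UAbig_valid hFA ht1 hF EB_valid hFB kill_big2small.1 kill_big2small.2).elim
  · exact (Side.kill SAbig0_3 pair_valid EA_valid UAbig_valid hFA ht1 hF EB_valid hFB kill_big3small.1 kill_big3small.2).elim

/-- A live configuration. -/
theorem live_BB (hFA : Fused UAbig EA co) (hFB : Fused UBbig EB co) :
    ∃ x y m l, BB47.L.Ok P K co x y m l := by
  have ht1 : UAbig.O.testBit 1 = true := by decide +kernel
  have ht1' : UBbig.O.testBit 1 = true := by decide +kernel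
  obtain ⟨j, hj, x, hF⟩ := CompData.setup CAbig_valid CAbig_side pair_valid EA_valid UAbig_valid hFA ht1
  have hj : j < 4 := hj
  change Frame (SAbig0 j) co x at hF
  interval_cases j
  · exact (Side.kill SAbig0_0 pair_valid EA_valid UAbig_valid hFA ht1 hF EB_valid hFB kill_big0big.1 kill_big0big.2).elim
  · exact (Side.kill SAbig0_1 pair_valid EA_valid UAbig_valid hFA ht1 hF EB_valid hFB kill_big1big.1 kill_big1big.2).elim
  · exact (Side.kill SAbig0_2 pair_valid EA_valid UAbig_valid hFA ht1 hF EB_valid hFB kill_big2big.1 kill_big2big.2).elim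
  · obtain ⟨i, hi, y, hF'⟩ := CompData.setup CBbig_valid CBbig_side pair_valid EB_valid UBbig_valid hFB ht1'
    have hi : i < 4 := hi
    change Frame (SBbig0 i) co y at hF'
    interval_cases i
    · obtain ⟨m, l, e, hm, hl, he, hme, hs⟩ := Side.live SAbig0_3 SBbig0_0 pair_valid EA_valid EB_valid
        UAbig_valid UBbig_valid hFA hFB ht1 ht1' hF hF' (by decide +kernel) (by decide +kernel) cross_big3big pairs_big3big0
      have hmem := Tables.all_lt surv_big3big0 he
      rw [hs] at hmem
      simp at hmem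
      have mk : ∀ (e : Nat) (y m l : G), e < 64 → Frame (SBbig0 0) co y → (EA.Induces co m (matAbig0 2) ∧ InL x m) →
          (EB.Induces co l (matBbig0 2) ∧ InL y l) → m = EB.E co e * l → ∀ L : Letters, L.A = SAbig0 3 →
          L.B = SBbig0 0 → L.e = e → L.checkGens = true → L.Ok P K co x y m l := by
        rintro e y m l he hF' hm hl hme ⟨A', B', e', g⟩ rfl rfl rfl hg
        exact ⟨pair_valid, SAbig0_3, SBbig0_0, EA_valid, EB_valid, UAbig_valid, UBbig_valid, hg, hF, hF', hm, hl, he, hme⟩
      obtain ⟨y', l', hF'', hl', hfl⟩ := Side.flip SBbig0_0 EB_valid hF' hl he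
      rw [hfl] at hme
      rcases hmem with rfl | rfl | rfl | rfl
      · exact (case_BB45 (mk 45 y m l (by norm_num) hF' hm hl (hme.trans hfl.symm) _ rfl rfl rfl BB45.gens_ok)).elim
      · exact ⟨_, _, _, _, (mk 47 y m l (by norm_num) hF' hm hl (hme.trans hfl.symm) _ rfl rfl rfl BB47.gens_ok)⟩
      · exact (case_BB45 (mk 45 y' m l' (by norm_num) hF'' hm hl' hme _ rfl rfl rfl BB45.gens_ok)).elim
      · exact ⟨_, _, _, _, (mk 47 y' m l' (by norm_num) hF'' hm hl' hme _ rfl rfl rfl BB47.gens_ok)⟩
    · obtain ⟨m, l, e, hm, hl, he, hme, hs⟩ := Side.live SAbig0_3 SBbig0_1 pair_valid EA_valid EB_valid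
        UAbig_valid UBbig_valid hFA hFB ht1 ht1' hF hF' (by decide +kernel) (by decide +kernel) cross_big3big pairs_big3big1
      have hmem := Tables.all_lt surv_big3big1 he
      rw [hs] at hmem
      simp at hmem
    · obtain ⟨m, l, e, hm, hl, he, hme, hs⟩ := Side.live SAbig0_3 SBbig0_2 pair_valid EA_valid EB_valid
        UAbig_valid UBbig_valid hFA hFB ht1 ht1' hF hF' (by decide +kernel) (by decide +kernel) cross_big3big pairs_big3big2
      have hmem := Tables.all_lt surv_big3big2 he
      rw [hs] at hmem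
      simp at hmem
    · obtain ⟨m, l, e, hm, hl, he, hme, hs⟩ := Side.live SAbig0_3 SBbig0_3 pair_valid EA_valid EB_valid
        UAbig_valid UBbig_valid hFA hFB ht1 ht1' hF hF' (by decide +kernel) (by decide +kernel) cross_big3big pairs_big3big3
      have hmem := Tables.all_lt surv_big3big3 he
      rw [hs] at hmem
      simp at hmem

end Cfsg.Agent.HeRecog.M8a
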