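import Cfsg.Agent.HeRecog.M8a.Data

/-! Generated: checks on the subgroups. -/

set_option autoImplicit false
set_option maxRecDepth 100000

namespace Cfsg.Agent.HeRecog.M8a

theorem EA_valid : EA.Valid D K where
  mul := by decide +kernel
  one := by decide +kernel
  cls := by decide +kernel
  cent := by decide +kernel
  basis := rfl

end Cfsg.Agent.HeRecog.M8a
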