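import Cfsg.Agent.HeRecog.Generated
import Cfsg.Agent.HeRecog.M8a.SS2
import Cfsg.Agent.HeRecog.M8a.BS34
import Cfsg.Agent.HeRecog.M8a.BB47

/-! Generated: orbits of the involution under the generated subgroup. -/

set_option autoImplicit false
set_option maxRecDepth 100000

namespace Cfsg.Agent.HeRecog.M8a

/-- The orbit. -/
def orbSSA : List (Nat × Nat × Nat) := [(1, 17, 21504), (17, 19, 21504), (17, 29, 16), (17, 30, 20), (17, 40, 1792), (17, 44, 1796), (17, 33, 1824), (17, 36, 1828), (17, 57, 11392), (17, 63, 11396), (17, 53, 11408), (17, 50, 11412), (29, 13, 21504), (30, 14, 21504), (44, 6, 21504), (33, 9, 21504), (63, 7, 21504), (50, 8, 21504), (13, 15, 21504), (13, 12, 4)]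

/-- The orbit. -/
def orbSSB : List (Nat × Nat × Nat) := [(1, 17, 21504), (17, 19, 21504), (17, 28, 16), (17, 31, 20), (17, 41, 1664), (17, 34, 1668), (17, 44, 1672), (17, 38, 1676), (17, 61, 14592), (17, 53, 14596), (17, 58, 14600), (17, 51, 14604), (28, 12, 21504), (31, 15, 21504), (41, 9, 21504), (38, 4, 21504), (53, 5, 21504), (58, 8, 21504), (12, 14, 21504), (12, 13, 4)]

/-- The orbit. -/
def orbBSA : List (Nat × Nat × Nat) := [(1, 17, 21504), (17, 19, 21504), (17, 29, 16), (17, 30, 20), (17, 40, 1792), (17, 44, 1796), (17, 33, 1824), (17, 36, 1828), (17, 57, 11392), (17, 63, 11396), (17, 53, 11408), (17, 50, 11412), (29, 13, 21504), (30, 14, 21504), (40, 49, 21504), (44, 20, 21504), (33, 27, 21504), (36, 47, 21504), (57, 34, 21504), (63, 21, 21504), (53, 60, 21504), (50, 26, 21504), (13, 15, 21504), (13, 12, 4), (14, 8, 1792), (14, 9, 1796), (14, 7, 11392), (14, 6, 11408), (49, 25, 21504), (49, 54, 4), (49, 61, 16), (49, 59, 20), (49, 58, 32), (49, 55, 48), (49, 48, 52),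 (49, 43, 8964), (49, 46, 8976), (49, 42, 8980), (49, 39, 8992), (49, 38, 9008), (49, 35, 9012), (49, 24, 13444), (49, 22, 13456), (49, 23, 13492)]

/-- The orbit. -/
def orbBSB : List (Nat × Nat × Nat) := [(1, 17, 21504), (17, 19, 21504), (17, 28, 16), (17, 31, 20), (17, 41, 1664), (17, 34, 1668), (17, 44, 1672), (17, 38, 1676), (17, 61, 14592), (17, 53, 14596), (17, 58, 14600), (17, 51, 14604), (28, 12, 21504), (31, 15, 21504), (41, 9, 21504), (38, 4, 21504), (53, 5, 21504), (58, 8, 21504), (12, 14, 21504), (12, 13, 4)]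

/-- The orbit. -/
def orbBBA : List (Nat × Nat × Nat) := [(1, 17, 21504), (17, 19, 21504), (17, 29, 16), (17, 30, 20), (17, 40, 1792), (17, 44, 1796), (17, 33, 1824), (17, 36, 1828), (17, 57, 11392), (17, 63, 11396), (17, 53, 11408), (17, 50, 11412), (29, 13, 21504), (30, 14, 21504), (40, 49, 21504), (44, 20, 21504), (33, 27, 21504), (36, 47, 21504), (57, 34, 21504), (63, 21, 21504), (53, 60, 21504), (50, 26, 21504), (13, 15, 21504), (13, 12, 4), (14, 8, 1792), (14, 9, 1796), (14, 7, 11392), (14, 6, 11408), (49, 25, 21504), (49, 54, 4), (49, 61, 16), (49, 59, 20), (49, 58, 32), (49, 55, 48), (49, 48, 52), (49, 43, 8964), (49, 46, 8976), (49, 42, 8980), (49, 39, 8992), (49, 38, 9008), (49, 35, 9012), (49, 24, 13444), (49, 22, 13456), (49, 23, 13492)]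

/-- The orbit. -/
def orbBBB : List (Nat × Nat × Nat) := [(1, 17, 21504), (17, 19, 21504), (17, 28, 16), (17, 31, 20), (17, 41, 1664), (17, 34, 1668), (17, 44, 1672), (17, 38, 1676), (17, 61, 14592), (17, 53, 14596), (17, 58, 14600), (17, 51, 14604), (28, 12, 21504), (31, 15, 21504), (41, 22, 21504), (34, 42, 21504), (44, 54, 21504), (38, 27, 21504), (61, 37, 21504), (53, 26, 21504), (58, 23, 21504), (51, 57, 21504), (12, 14, 21504), (12, 13, 4), (12, 4, 1664), (12, 5, 1668), (12, 9, 14592), (12, 8, 14600), (22, 33, 21504), (22, 21, 4), (22, 20, 8), (22, 24, 20), (22, 25, 24), (22, 47, 1664), (22, 43, 1680), (22, 32, 1684), (22, 46, 1688), (22, 36, 1692), (22, 55, 14592), (22, 63, 14596), (22, 49, 14600), (22, 56, 14604), (22, 62, 14608), (22, 48, 14620)]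

theorem orbSSA_ok : SS2.L.A.orbOk P D orbSSA 2 = true := by decide +kernel

theorem orbSSB_ok : SS2.L.B.orbOk P D orbSSB 2 = true := by decide +kernel

theorem orbBSA_ok : BS34.L.A.orbOk P D orbBSA 2 = true := by decide +kernel

theorem orbBSB_ok : BS34.L.B.orbOk P D orbBSB 2 = true := by decide +kernel

theorem orbBBA_ok : BB47.L.A.orbOk P D orbBBA 2 = true := by decide +kernel

theorem orbBBB_ok : BB47.L.B.orbOk P D orbBBB 2 = true := by decide +kernel

end Cfsg.Agent.HeRecog.M8a
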