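import Cfsg.Agent.HeRecog.M8a.Data

/-! Generated: checks on the subgroups. -/

set_option autoImplicit false
set_option maxRecDepth 100000

namespace Cfsg.Agent.HeRecog.M8a

theorem Q_valid : Q.Valid D where
  idx := by decide +kernel
  adj := by decide +kernel
  pos := by decide +kernel
  cases := by decide +kernel

end Cfsg.Agent.HeRecog.M8a
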