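import Cfsg.Agent.HeRecog.M8a.ElA
import Cfsg.Agent.HeRecog.M8a.ElB
import Cfsg.Agent.HeRecog.M8a.Search

/-! Generated: checks on the subgroups. -/

set_option autoImplicit false
set_option maxRecDepth 100000

namespace Cfsg.Agent.HeRecog.M8a

theorem pair_valid : P.Valid D K where
  X := EA_valid
  Y := EB_valid
  Q := Q_valid
  inv := by decide +kernel
  card := by decide +kernel
  centre := by decide +kernel
  apart := by decide +kernel
  side := by decide +kernel

end Cfsg.Agent.HeRecog.M8a
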