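import Cfsg.Agent.HeRecog.M8a.SideA
import Cfsg.Agent.HeRecog.M8a.SideB
import Cfsg.Agent.HeRecog.Cases

/-! Generated: the presentation. -/

set_option autoImplicit false
set_option maxRecDepth 100000

namespace Cfsg.Agent.HeRecog.M8a.SB2

open Cfsg.Agent.CosetCert

/-- The letters. -/
noncomputable def L : Letters := ⟨SAsmall0 3, SBbig0 3, 2, Cfsg.Agent.Compute.getField 16 0x1000080004000200010000800040002⟩

/-- The relations. -/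
def RS : List RelSpec := [
  .cen [0, 0],
  .cen [1, 1],
  .cen [2, 2],
  .cen [3, 3],
  .cen [4, 4],
  .cen [5, 5],
  .cen [6, 6],
  .loc false [0, 0],
  .loc true [0, 0],
  .conj false [0] [20, 14] ⟨2, [], [], 2, 130⟩,
  .conj false [6] [14] ⟨16, [], [], 128, 2⟩,
  .conj false [9] [15, 14, 19] ⟨0, [0], [0, 1, 1, 0, 1, 1], 9003, 70⟩,
  .conj false [11] [17, 14, 17, 14, 19, 18] ⟨33, [], [], 9525, 97⟩,
  .conj true [0] [20, 14] ⟨2, [], [], 2, 130⟩,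
  .conj true [6] [14] ⟨16, [], [], 128, 2⟩,
  .conj true [9] [15, 14, 19] ⟨39, [], [], 9003, 70⟩,
  .conj true [11] [17, 14, 17, 14, 19, 18] ⟨0, [0], [0, 1, 1, 0, 1, 1], 9525, 97⟩,
  .cen [6, 0, 20, 14],
  .cen [7, 0, 21, 16, 14, 19, 18, 17],
  .cen [1, 0, 15, 14],
  .cen [6, 1, 20, 15, 14],
  .cen [7, 1, 21, 16, 17],
  .cen [2, 0, 16, 14],
  .cen [2, 1, 16, 15],
  .cen [6, 2, 20, 16, 14],
  .cen [7, 2, 21, 16, 15],
  .cen [3, 0, 17, 14, 17, 14, 17, 14],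
  .cen [3, 1, 17, 15],
  .cen [3, 2, 17, 16],
  .cen [6, 3, 20, 16, 15, 19, 18, 17],
  .cen [7, 3, 21, 17],
  .cen [4, 0, 18, 14],
  .cen [4, 1, 18, 15, 17, 14, 17, 14],
  .cen [4, 2, 18, 16],
  .cen [4, 3, 18, 17],
  .cen [6, 4, 20, 14, 18],
  .cen [7, 4, 21, 19, 18, 17],
  .cen [5, 0, 19, 14],
  .cen [5, 1, 19, 15],
  .cen [5, 2, 19, 16, 17, 14, 17, 14],
  .cen [5, 3, 19, 17],
  .cen [5, 4, 19, 18],
  .cen [6, 5, 20, 14, 19],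
  .cen [7, 5, 21, 18],
  .cen [7, 7, 7, 17],
  .cen [6, 7, 6, 7, 6, 7, 6, 7, 6, 7, 6, 7, 6, 7],
  .cen [20, 21, 6, 7, 20, 21, 6, 7, 20, 21, 6, 7, 20, 21, 6, 7],
  .cen [9, 21, 21, 20, 21, 20, 21, 21, 20, 21, 17, 14, 17, 14, 16, 14, 18],
  .cen [10, 21, 20, 21, 21, 15, 14, 19, 18],
  .cen [11, 21, 20, 21, 21, 20, 21, 20, 21, 21, 17, 14, 17, 14, 15, 18, 17],
  .cen [12, 21, 20, 21, 20, 21, 20, 21, 21, 20, 21, 20, 21, 20, 19],
  .link [0],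
  .conj false [0, 3, 0, 3] [20, 17, 14, 17, 14] ⟨1, [], [], 1, 129⟩,
  .conj false [1, 2] [21, 20, 21, 21, 20, 21, 20, 21, 21, 17, 14, 17, 14, 16, 14, 18, 17] ⟨4, [], [], 12, 9531⟩,
  .conj false [4, 5] [21, 20, 21, 21, 20, 21, 20, 21, 21, 20, 16, 18, 17] ⟨8, [], [], 96, 10808⟩,
  .conj false [3, 4, 1, 7, 7, 6, 7, 6, 7, 7, 6, 7] [20, 19, 18] ⟨32, [], [], 9524, 224⟩,
  .conj true [0, 3, 0, 3] [20, 17, 14, 17, 14] ⟨1, [], [], 1, 129⟩,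
  .conj true [4, 2] [21, 21, 20, 21, 20, 21, 21, 20, 21, 20, 17, 14, 17, 14] ⟨4, [], [], 40, 10241⟩,
  .conj true [5, 1] [21, 21, 20, 21, 20, 21, 21, 20, 21, 20, 16, 15, 14, 19, 18] ⟨8, [], [], 68, 10350⟩,
  .conj true [7, 6, 7, 7, 6, 7, 6, 7, 7] [21, 21, 20, 21, 20, 21, 21, 20, 21, 20, 15, 19] ⟨32, [], [], 8960, 10308⟩,
  .loc false [2, 2, 2],
  .loc true [2, 2, 2],
  .loc false [0, 2, 0, 2, 3, 2],
  .loc false [0, 1, 1, 5, 0, 2, 4, 4],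
  .loc false [0, 1, 2, 4, 5, 4, 2, 4],
  .loc false [0, 5, 1, 2, 0, 5, 1, 2],
  .loc true [1, 1, 1, 1],
  .loc true [0, 2, 0, 2, 3, 2],
  .loc true [0, 5, 1, 2, 0, 5, 1, 2],
  .loc true [0, 1, 2, 1, 5, 0, 4, 5, 4, 5],
  .cen [9, 0, 23, 14],
  .cen [9, 1, 23, 14, 19],
  .cen [9, 2, 23, 18],
  .cen [9, 3, 23, 16, 18, 17],
  .cen [9, 4, 23, 16],
  .cen [9, 5, 23, 15, 14],
  .cen [9, 6, 23, 20],
  .cen [9, 7, 23, 20, 21, 21, 20, 21, 21, 20, 21, 20, 21, 20, 21, 21, 17, 14, 17, 14, 15, 14, 17],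
  .cen [10, 0, 24, 16, 15],
  .cen [10, 1, 24, 16, 14],
  .cen [10, 2, 24, 17, 14, 17, 14, 16],
  .cen [10, 3, 24, 16, 18],
  .cen [10, 4, 24, 16, 17],
  .cen [10, 5, 24, 17, 14, 17, 14, 15, 14, 19, 18, 17],
  .cen [10, 6, 24, 21, 20, 21, 21, 20, 21, 20, 21, 21, 16, 19, 17],
  .cen [10, 7, 24, 21, 20, 21, 20, 21, 21, 17, 14, 17, 14, 16, 15, 14, 19, 18, 17],
  .cen [11, 0, 25, 14],
  .cen [11, 1, 25, 17, 14, 17, 14, 16],
  .cen [11, 2, 25, 17, 14, 17, 14, 15],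
  .cen [11, 3, 25, 17],
  .cen [11, 4, 25, 17, 14, 17, 14, 19],
  .cen [11, 5, 25, 17, 14, 17, 14, 18],
  .cen [11, 6, 25, 20],
  .cen [11, 7, 25, 21, 21, 20, 21, 20, 21, 20, 21, 21, 20, 21, 21, 20, 17, 14, 17, 14, 19, 17],
  .cen [12, 0, 26, 16, 14, 18],
  .cen [12, 1, 26, 17, 14, 17, 14, 16, 15, 17],
  .cen [12, 2, 26, 17, 14, 17, 14, 16],
  .cen [12, 3, 26, 17],
  .cen [12, 4, 26, 18],
  .cen [12, 5, 26, 19, 18, 17],
  .cen [12, 6, 26, 21, 21, 20, 21, 20, 21, 21, 20, 21, 20, 16, 18],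
  .cen [12, 7, 26, 21, 21, 18]]

theorem RS_ok : RS.all (L.check P D) = true := by decide +kernel

theorem gens_ok : L.checkGens = true := by decide +kernel

/-- The subgroup. -/
def SS : List SubSpec := [.cen [0, 3, 0, 3], .cen [0], .cen [1, 2], .cen [4, 5], .cen [6], .cen [3, 4, 1, 7, 7, 6, 7, 6, 7, 7, 6, 7], .loc false [0], .loc false [1], .loc false [2]]

/-- The marked set. -/
def MK : Mark := ⟨0xffffffffffffffff, 0x0⟩

theorem first_ok : SS.all Mark.first = true := by decide +kernel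

theorem SS_ok : SS.all (MK.check L P D) = true := by decide +kernel

/-- An element of prime order modulo the subgroup. -/
def word : List Nat := [13, 3, 7]

theorem outside_ok : MK.stabC L P D (L.gens 7) = false := by decide +kernel

end Cfsg.Agent.HeRecog.M8a.SB2
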