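import Cfsg.Agent.HeRecog.M8a.Maps

/-! Generated: checks on the sides. -/

set_option autoImplicit false
set_option maxRecDepth 100000

namespace Cfsg.Agent.HeRecog.M8a

open Cfsg.Agent.Compute Cfsg.Agent.CosetCert

theorem SAsmall0_0 : (SAsmall0 0).Valid P D K where
  lt := by decide +kernel
  mat := by decide +kernel
  norm := by decide +kernel

theorem SAsmall0_1 : (SAsmall0 1).Valid P D K where
  lt := by decide +kernel
  mat := by decide +kernel
  norm := by decide +kernel

theorem SAsmall0_2 : (SAsmall0 2).Valid P D K where
  lt := by decide +kernel
  mat := by decide +kernel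
  norm := by decide +kernel

theorem SAsmall0_3 : (SAsmall0 3).Valid P D K where
  lt := by decide +kernel
  mat := by decide +kernel
  norm := by decide +kernel

theorem SAbig0_0 : (SAbig0 0).Valid P D K where
  lt := by decide +kernel
  mat := by decide +kernel
  norm := by decide +kernel

theorem SAbig0_1 : (SAbig0 1).Valid P D K where
  lt := by decide +kernel
  mat := by decide +kernel
  norm := by decide +kernel

theorem SAbig0_2 : (SAbig0 2).Valid P D K where
  lt := by decide +kernel
  mat := by decide +kernel
  norm := by decide +kernel

theorem SAbig0_3 : (SAbig0 3).Valid P D K where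
  lt := by decide +kernel
  mat := by decide +kernel
  norm := by decide +kernel


end Cfsg.Agent.HeRecog.M8a
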