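import Cfsg.Agent.HeRecog.M8a.SwapData

/-! Generated: checks of the automorphism. -/

set_option autoImplicit false
set_option maxRecDepth 100000
set_option Elab.async false

namespace Cfsg.Agent.HeRecog.M8a.Swap

open Cfsg.Agent.CosetCert

theorem genAt6000 : allFrom checkGen 6000 3000 = true := by decide +kernel

theorem genAt9000 : allFrom checkGen 9000 3000 = true := by decide +kernel

end Cfsg.Agent.HeRecog.M8a.Swap
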