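import Cfsg.Agent.HeRecog.M8a.SwapGen0
import Cfsg.Agent.HeRecog.M8a.SwapGen1
import Cfsg.Agent.HeRecog.M8a.SwapGen2
import Cfsg.Agent.HeRecog.M8a.SwapGen3

/-! Generated: checks of the automorphism. -/

set_option autoImplicit false
set_option maxRecDepth 100000
set_option Elab.async false

namespace Cfsg.Agent.HeRecog.M8a.Swap

open Cfsg.Agent.CosetCert

theorem gen_all : ∀ i, i < 21504 → checkGen i = true := by
  have h0 : ∀ i, i < 0 → checkGen i = true := forall_lt_zero
  have h1 := forall_lt_step (b := 3000) h0 genAt0 rfl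
  have h2 := forall_lt_step (b := 6000) h1 genAt3000 rfl
  have h3 := forall_lt_step (b := 9000) h2 genAt6000 rfl
  have h4 := forall_lt_step (b := 12000) h3 genAt9000 rfl
  have h5 := forall_lt_step (b := 15000) h4 genAt12000 rfl
  have h6 := forall_lt_step (b := 18000) h5 genAt15000 rfl
  have h7 := forall_lt_step (b := 21000) h6 genAt18000 rfl
  have h8 := forall_lt_step (b := 21504) h7 genAt21000 rfl
  exact h8

end Cfsg.Agent.HeRecog.M8a.Swap
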