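import Cfsg.Agent.HeRecog.M8a.Swap
import Cfsg.Agent.HeRecog.Options

/-! Coordinates composed with the automorphism exchanging the two subgroups. -/

set_option autoImplicit false
set_option linter.all false

namespace Cfsg.Agent.HeRecog.M8a.Swap

open Cfsg.Agent.CosetCert

variable {G : Type*} [Group G] {t : G} (co : Coord D t)

theorem sig_lt {c : Nat} (hc : c < 21504) : sig c < 21504 ∧ sigI c < 21504 ∧ sig (sigI c) = c ∧ sigI (sig c) = c := by
  have h := Tables.all_lt pair_ok hc
  simp only [checkPair, Bool.and_eq_true] at h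
  exact ⟨Nat.ble_eq.mp h.1, Nat.ble_eq.mp h.2.1, Nat.eq_of_beq_eq_true h.2.2.1, Nat.eq_of_beq_eq_true h.2.2.2⟩

theorem gens_lt {g : Nat} (hg : g < 8) : BB47.L.gens g < 21504 :=
  Nat.ble_eq.mp (Tables.all_lt BB47.gens_ok hg)

include co in
theorem sig_mul {c d : Nat} (hc : c < 21504) (hd : d < 21504) : sig (D.mul c d) = D.mul (sig c) (sig d) := by
  suffices ∀ (r d : Nat), d < 21504 → BB47.H.rank d = r → ∀ c, c < 21504 → sig (D.mul c d) = D.mul (sig c) (sig d) by
    exact this _ d hd rfl c hc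
  intro r
  induction r using Nat.strong_induction_on with
  | _ r ih =>
    intro d hd hr c hc
    have h0 : 0 < 21504 := by norm_num
    have hmul0 : ∀ a, a < 21504 → D.mul a 0 = a := fun a ha =>
      co.inj _ _ (co.lt a 0 ha h0) ha (by rw [co.mul a 0 ha h0, co.zero, mul_one])
    have hp := Tables.all_lt BB47.pre_ok hd
    simp only [HeData.checkPre, Bool.or_eq_true, Bool.and_eq_true] at hp
    rcases hp with hp | ⟨h1, h2, h3⟩
    · rw [Nat.eq_of_beq_eq_true hp, hmul0 c hc, base_ok.1, hmul0 _ (sig_lt hc).1]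
    have h1 := Nat.ble_eq.mp h1
    have h3 := Nat.eq_of_beq_eq_true h3
    set a := BB47.H.pre d / 8
    set g := BB47.H.pre d % 8
    have hg : g < 8 := Nat.mod_lt _ (by norm_num)
    have hG : ∀ u, u < 21504 → sig (D.mul u (BB47.L.gens g)) = D.mul (sig u) (sig (BB47.L.gens g)) := fun u hu => by
      have hh := gen_all u hu
      simp only [checkGen] at hh
      exact Nat.eq_of_beq_eq_true (Tables.all_lt hh hg)
    have assoc : ∀ u v w, u < 21504 → v < 21504 → w < 21504 → D.mul (D.mul u v) w = D.mul u (D.mul v w) :=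
      fun u v w hu hv hw => co.inj _ _ (co.lt _ _ (co.lt u v hu hv) hw) (co.lt _ _ hu (co.lt v w hv hw)) (by
        rw [co.mul _ _ (co.lt u v hu hv) hw, co.mul u v hu hv, co.mul _ _ hu (co.lt v w hv hw), co.mul v w hv hw, mul_assoc])
    rw [← h3, ← assoc c a _ hc h1 (gens_lt hg), hG _ (co.lt c a hc h1),
      ih _ (hr ▸ Nat.ble_eq.mp h2) a h1 rfl c hc, hG a h1,
      assoc _ _ _ (sig_lt hc).1 (sig_lt h1).1 (sig_lt (gens_lt hg)).1]

/-- The composed coordinates. -/
noncomputable def coord : Coord D t where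
  ψ c := co.ψ (sig c)
  lt := co.lt
  mul c d hc hd := by rw [sig_mul co hc hd, co.mul _ _ (sig_lt hc).1 (sig_lt hd).1]
  mem c hc := co.mem _ (sig_lt hc).1
  surj g hg := by
    obtain ⟨c, hc, rfl⟩ := co.surj g hg
    exact ⟨sigI c, (sig_lt hc).2.1, by rw [(sig_lt hc).2.2.1]⟩
  inj c d hc hd h := by
    have := co.inj _ _ (sig_lt hc).1 (sig_lt hd).1 h
    rw [← (sig_lt hc).2.2.2, this, (sig_lt hd).2.2.2]
  zero := by rw [base_ok.1, co.zero]
  one := by rw [base_ok.2, co.one]

/-- A class is sent to another. -/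
noncomputable def checkClass (r r' k : Nat) : Bool :=
  Nat.blt (K.rep k) 21504 && K.tab.any fun e => Nat.beq e.1 (sig (K.rep k)) &&
    (inF K.allowed r' k == inF K.allowed r e.2.1)

theorem class23 : allFrom (checkClass 23 15) 0 K.reps.length = true := by decide +kernel

theorem class2 : allFrom (checkClass 2 1) 0 K.reps.length = true := by decide +kernel

variable {co}

/-- The fused set in the composed coordinates. -/
theorem fusedSet [Finite G] {r r' : Nat} (hr : FusedSet P K co r) (hr' : r' < 32)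
    (h : allFrom (checkClass r r') 0 K.reps.length = true) : FusedSet P K (coord co) r' := by
  refine ⟨hr', fun k hk => ?_⟩
  have hk' := Tables.all_lt h hk
  simp only [checkClass, Bool.and_eq_true, List.any_eq_true] at hk'
  obtain ⟨hlt, ⟨c, j, e⟩, hm, hc, hin⟩ := hk'
  have hlt := Nat.ble_eq.mp hlt
  obtain rfl := Nat.eq_of_beq_eq_true hc
  have he := List.all_eq_true.1 classes.entries _ hm
  simp only [Classes.checkEntry, Bool.and_eq_true] at he
  obtain ⟨hcl, hel, hjl, heq⟩ := he
  have hjl := Nat.ble_eq.mp hjl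
  have hel := Nat.ble_eq.mp hel
  have hrl := Tables.all_lt classes.count hjl
  simp only [Classes.checkCount, Bool.and_eq_true] at hrl
  have hrl := Nat.ble_eq.mp hrl.1
  have hconj : IsConj (co.ψ (K.rep j)) (co.ψ (sig (K.rep k))) := isConj_iff.2 ⟨co.ψ e, by
    rw [mul_inv_eq_iff_eq_mul, ← co.mul _ _ hel hrl, ← co.mul _ _ (Nat.ble_eq.mp hcl) hel,
      Nat.eq_of_beq_eq_true heq]⟩
  rw [eq_of_beq hin, hr.iff j hjl]
  show _ ↔ IsConj t (co.ψ (sig (K.rep k)))
  exact ⟨fun hh => hh.trans hconj, fun hh => hh.trans hconj.symm⟩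

end Cfsg.Agent.HeRecog.M8a.Swap
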