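import Cfsg.Agent.HeRecog.M8a.Ctl7
import Cfsg.Agent.HeRecog.M8a.Ctl15
import Cfsg.Agent.HeRecog.M8a.Ctl31
import Cfsg.Agent.HeRecog.M8a.Orbits
import Cfsg.Agent.HeRecog.M8a.Fuse
import Cfsg.Agent.HeRecog.M8a.Maps

/-! In each live configuration the group is generated by the centraliser and the letter. -/

set_option autoImplicit false
set_option linter.all false
set_option maxRecDepth 100000

namespace Cfsg.Agent.HeRecog.M8a

open Cfsg.Agent.CosetCert

variable {G : Type*} [Group G] [Finite G] {t : G} {co : Coord D t} {x y m l : G}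

/-- The group is generated by the centraliser and the letter. -/
theorem top7 (ht : orderOf t = 2) (hC : Nat.card (Subgroup.centralizer ({t} : Set G)) = 21504)
    (hr : FusedSet P K co 7) (h : SS2.L.Ok P K co x y m l) : gen t m = ⊤ := by
  have hFA : Fused UAsmall EA co := fused_of_mask classes pair_valid ht hC hr (Or.inl rfl) mask7.1
  have hFB : Fused UBsmall EB co := fused_of_mask classes pair_valid ht hC hr (Or.inr rfl) mask7.2
  have hctx : Engine.Ctx Ctl7.E (co : Coord Ctl7.E.D t) (gen t m) :=
    { pair := pair_valid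
      cls := classes
      ord := ht
      card := hC
      fs := hr
      fm := Ctl7.fm_ok
      autX := UAsmall_valid
      autY := UBsmall_valid
      one := ⟨by decide +kernel, by decide +kernel⟩
      fusX := hFA
      fusY := hFB
      mapX := Ctl7.mapX_ok
      mapY := Ctl7.mapY_ok
      cent := cent_le_gen t m
      normX := fun n f hn => Side.norm_mem (S := SS2.L.A) h.AX h.pair hFA (cent_le_gen t m) (mem_gen t m) h.m_ind.1
        (by decide +kernel) orbSSA_ok hn
      normY := fun n f hn => Side.norm_mem (S := SS2.L.B) h.BX h.pair hFB (cent_le_gen t m) (Letters.l_mem_gen h) h.l_ind.1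
        (by decide +kernel) orbSSB_ok hn }
  have hM : Ctrl (gen t m) t := hctx.ctrl Ctl7.reach_ok Ctl7.cover_ok
  have hd : ∀ Z ∈ ([] : List (List Nat)), Engine.Safe (E := Ctl7.E) co (gen t m) Z := by simp
  refine Engine.top hctx hM (roots := Ctl7.roots) ?_ Ctl7.singles_ok Ctl7.pick_ok
  refine Engine.safe_nodes hctx hM (Ns := [Ctl7.node0, Ctl7.node1, Ctl7.node2, Ctl7.node3, Ctl7.node4, Ctl7.node5]) (done := ([] : List (List Nat))) hd fun i hi => ?_
  simp only [List.length_cons, List.length_nil] at hi
  interval_cases i
  · exact Ctl7.node0_ok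
  · exact Ctl7.node1_ok
  · exact Ctl7.node2_ok
  · exact Ctl7.node3_ok
  · exact Ctl7.node4_ok
  · exact Ctl7.node5_ok

/-- The group is generated by the centraliser and the letter. -/
theorem top15 (ht : orderOf t = 2) (hC : Nat.card (Subgroup.centralizer ({t} : Set G)) = 21504)
    (hr : FusedSet P K co 15) (h : BS34.L.Ok P K co x y m l) : gen t m = ⊤ := by
  have hFA : Fused UAbig EA co := fused_of_mask classes pair_valid ht hC hr (Or.inl rfl) mask15.1
  have hFB : Fused UBsmall EB co := fused_of_mask classes pair_valid ht hC hr (Or.inr rfl) mask15.2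
  have hctx : Engine.Ctx Ctl15.E (co : Coord Ctl15.E.D t) (gen t m) :=
    { pair := pair_valid
      cls := classes
      ord := ht
      card := hC
      fs := hr
      fm := Ctl15.fm_ok
      autX := UAbig_valid
      autY := UBsmall_valid
      one := ⟨by decide +kernel, by decide +kernel⟩
      fusX := hFA
      fusY := hFB
      mapX := Ctl15.mapX_ok
      mapY := Ctl15.mapY_ok
      cent := cent_le_gen t m
      normX := fun n f hn => Side.norm_mem (S := BS34.L.A) h.AX h.pair hFA (cent_le_gen t m) (mem_gen t m) h.m_ind.1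
        (by decide +kernel) orbBSA_ok hn
      normY := fun n f hn => Side.norm_mem (S := BS34.L.B) h.BX h.pair hFB (cent_le_gen t m) (Letters.l_mem_gen h) h.l_ind.1
        (by decide +kernel) orbBSB_ok hn }
  have hM : Ctrl (gen t m) t := hctx.ctrl Ctl15.reach_ok Ctl15.cover_ok
  have hd : ∀ Z ∈ ([] : List (List Nat)), Engine.Safe (E := Ctl15.E) co (gen t m) Z := by simp
  refine Engine.top hctx hM (roots := Ctl15.roots) ?_ Ctl15.singles_ok Ctl15.pick_ok
  refine Engine.safe_nodes hctx hM (Ns := [Ctl15.node0, Ctl15.node1, Ctl15.node2, Ctl15.node3]) (done := ([] : List (List Nat))) hd fun i hi => ?_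
  simp only [List.length_cons, List.length_nil] at hi
  interval_cases i
  · exact Ctl15.node0_ok
  · exact Ctl15.node1_ok
  · exact Ctl15.node2_ok
  · exact Ctl15.node3_ok

/-- The group is generated by the centraliser and the letter. -/
theorem top31 (ht : orderOf t = 2) (hC : Nat.card (Subgroup.centralizer ({t} : Set G)) = 21504)
    (hr : FusedSet P K co 31) (h : BB47.L.Ok P K co x y m l) : gen t m = ⊤ := by
  have hFA : Fused UAbig EA co := fused_of_mask classes pair_valid ht hC hr (Or.inl rfl) mask31.1
  have hFB : Fused UBbig EB co := fused_of_mask classes pair_valid ht hC hr (Or.inr rfl) mask31.2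
  have hctx : Engine.Ctx Ctl31.E (co : Coord Ctl31.E.D t) (gen t m) :=
    { pair := pair_valid
      cls := classes
      ord := ht
      card := hC
      fs := hr
      fm := Ctl31.fm_ok
      autX := UAbig_valid
      autY := UBbig_valid
      one := ⟨by decide +kernel, by decide +kernel⟩
      fusX := hFA
      fusY := hFB
      mapX := Ctl31.mapX_ok
      mapY := Ctl31.mapY_ok
      cent := cent_le_gen t m
      normX := fun n f hn => Side.norm_mem (S := BB47.L.A) h.AX h.pair hFA (cent_le_gen t m) (mem_gen t m) h.m_ind.1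
        (by decide +kernel) orbBBA_ok hn
      normY := fun n f hn => Side.norm_mem (S := BB47.L.B) h.BX h.pair hFB (cent_le_gen t m) (Letters.l_mem_gen h) h.l_ind.1
        (by decide +kernel) orbBBB_ok hn }
  have hM : Ctrl (gen t m) t := hctx.ctrl Ctl31.reach_ok Ctl31.cover_ok
  have h0 : Engine.Safe (E := Ctl31.E) co (gen t m) Ctl31.count.R := by
    have hc := Engine.Count.cent hctx hM Ctl31.count_ok
    have hk := Ctl31.count_ok
    simp only [Engine.Count.check, Bool.and_eq_true] at hk
    exact Engine.safe_cover hctx hM hk.1 hk.2.1 (by simp) (Engine.all2Chain_spec hctx Ctl31.covers_ok) hc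
  have hd : ∀ Z ∈ [Ctl31.count.R], Engine.Safe (E := Ctl31.E) co (gen t m) Z := fun Z hZ => by
    rw [List.mem_singleton.1 hZ]; exact h0
  refine Engine.top hctx hM (roots := Ctl31.roots) ?_ Ctl31.singles_ok Ctl31.pick_ok
  refine Engine.safe_nodes hctx hM (Ns := [Ctl31.node0]) (done := [Ctl31.count.R]) hd fun i hi => ?_
  simp only [List.length_cons, List.length_nil] at hi
  interval_cases i
  · exact Ctl31.node0_ok

end Cfsg.Agent.HeRecog.M8a
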